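import Cfsg.Agent.BrauerSuzuki.Theorem
import Mathlib.GroupTheory.SpecificGroups.KleinFour

/-!
# Forms of the Brauer-Suzuki theorem

For a generalised quaternion Sylow 2-subgroup and for groups of 2-rank one.
-/

set_option autoImplicit false
set_option linter.style.haveILetI false

namespace CfsgLib.BrauerSuzuki

universe u

variable {G : Type u} [Group G] [Finite G]

open QuaternionGroup in
theorem quaternion_sq_eq_one {n : ℕ} [NeZero n] {z : QuaternionGroup n} (h : z ^ 2 = 1) :
    z = 1 ∨ z = a (n : ZMod (2 * n)) := by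
  cases z with
  | a i =>
    rw [sq, a_mul_a] at h
    have h' : ((i.val + i.val : ℕ) : ZMod (2 * n)) = 0 := by
      rw [Nat.cast_add, ZMod.natCast_zmod_val]
      exact QuaternionGroup.a.inj h
    rw [ZMod.natCast_eq_zero_iff] at h'
    obtain ⟨c, hc⟩ := h'
    have hlt : i.val < 2 * n := ZMod.val_lt i
    have hc2 : c < 2 := by nlinarith
    have hi : i = ((i.val : ℕ) : ZMod (2 * n)) := (ZMod.natCast_zmod_val i).symm
    interval_cases c
    · left
      rw [hi, show i.val = 0 by omega, Nat.cast_zero]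
      rfl
    · right
      rw [hi, show i.val = n by omega]
  | xa i =>
    rw [sq, xa_mul_xa] at h
    have h' := QuaternionGroup.a.inj h
    simp only [add_sub_cancel_right] at h'
    rw [ZMod.natCast_eq_zero_iff] at h'
    have := Nat.le_of_dvd (Nat.pos_of_ne_zero (NeZero.ne n)) h'
    have := NeZero.ne n
    omega

/-- A group with a generalised quaternion Sylow 2-subgroup has no four-group. -/
theorem noFour_of_quaternion (S : Sylow 2 G) {n : ℕ} [NeZero n]
    (e : (S : Subgroup G) ≃* QuaternionGroup n) : NoFour G := by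
  intro s t s1 s0 t1 t0 hc
  have hp : ∀ x : G, x ^ 2 = 1 → IsPGroup 2 (Subgroup.zpowers x) := by
    intro x hx
    by_cases h : x = 1
    · rw [h, Subgroup.zpowers_one_eq_bot]; exact IsPGroup.of_bot
    · exact IsPGroup.of_card (n := 1) (by rw [Nat.card_zpowers, orderOf_eq_prime hx h, pow_one])
  have hP : IsPGroup 2 (Subgroup.zpowers s ⊔ Subgroup.zpowers t : Subgroup G) := by
    refine IsPGroup.to_sup_of_normal_right' (hp s s1) (hp t t1) ?_
    rw [Subgroup.zpowers_le]
    refine Subgroup.mem_normalizer_iff.2 fun w => ⟨fun hw => ?_, fun hw => ?_⟩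
    · obtain ⟨j, rfl⟩ := Subgroup.mem_zpowers_iff.1 hw
      rw [← conj_zpow, hc.eq, mul_inv_cancel_right]
      exact Subgroup.zpow_mem _ (Subgroup.mem_zpowers t) j
    · obtain ⟨j, hj⟩ := Subgroup.mem_zpowers_iff.1 hw
      have : w = t ^ j := by
        calc w = s⁻¹ * (s * w * s⁻¹) * s := by group
          _ = s⁻¹ * (t ^ j * s) := by rw [hj]; group
          _ = s⁻¹ * (s * t ^ j) := by rw [(hc.zpow_right j).eq]
          _ = t ^ j := by group
      rw [this]
      exact Subgroup.zpow_mem _ (Subgroup.mem_zpowers t) j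
  obtain ⟨T, hT⟩ := hP.exists_le_sylow
  set f := (T.equiv S).trans e
  have key : ∀ x (hx : x ∈ (T : Subgroup G)), x ^ 2 = 1 → x ≠ 1 →
      f ⟨x, hx⟩ = QuaternionGroup.a (n : ZMod (2 * n)) := fun x hx x1 x0 => by
    refine (quaternion_sq_eq_one (n := n) (by rw [← map_pow, ← map_one f]; exact congrArg f (Subtype.ext x1))).resolve_left
      fun h => x0 ?_
    rw [← map_one f] at h
    exact congrArg Subtype.val (f.injective h)
  have hs : s ∈ (T : Subgroup G) := hT (Subgroup.mem_sup_left (Subgroup.mem_zpowers s))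
  have ht : t ∈ (T : Subgroup G) := hT (Subgroup.mem_sup_right (Subgroup.mem_zpowers t))
  exact congrArg Subtype.val (f.injective ((key s hs s1 s0).trans (key t ht t1 t0).symm))

/-- A group without Klein four-subgroups. -/
theorem noFour_of_no_kleinFour (h : ∀ E : Subgroup G, ¬ IsKleinFour E) : NoFour G := by
  classical
  intro s t s1 s0 t1 t0 hc
  by_contra hne
  have hss : s * s = 1 := by rw [← sq, s1]
  have htt : t * t = 1 := by rw [← sq, t1]
  have e1 : s * (s * t) = t := by rw [← mul_assoc, hss, one_mul]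
  have e2 : t * (s * t) = s := by rw [← mul_assoc, hc.symm.eq, mul_assoc, htt, mul_one]
  have e3 : s * t * s = t := by rw [mul_assoc, hc.symm.eq, e1]
  have e4 : s * t * t = s := by rw [mul_assoc, htt, mul_one]
  have e5 : s * t * (s * t) = 1 := by rw [← mul_assoc, e3, htt]
  have hsi : s⁻¹ = s := inv_eq_of_mul_eq_one_right hss
  have hti : t⁻¹ = t := inv_eq_of_mul_eq_one_right htt
  have hsti : (s * t)⁻¹ = s * t := inv_eq_of_mul_eq_one_right e5
  let E : Subgroup G :=
    { carrier := {1, s, t, s * t}
      one_mem' := by simp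
      mul_mem' := by
        rintro x z (rfl | rfl | rfl | rfl) (rfl | rfl | rfl | rfl) <;>
          simp [hss, htt, hc.symm.eq, e1, e2, e3, e4, e5]
      inv_mem' := by
        rintro x (rfl | rfl | rfl | rfl)
        · simp
        · simp [hsi]
        · simp [hti]
        · rw [hsti]; simp }
  have hcoe : (E : Set G) = (({1, s, t, s * t} : Finset G) : Set G) := by
    simp [E]
  have hcard : Nat.card E = 4 := by
    rw [← SetLike.coe_sort_coe, hcoe, Nat.card_coe_set_eq, Set.ncard_coe_finset]
    have n1 : s * t ≠ 1 := fun e => hne (by rw [← hti]; exact eq_inv_of_mul_eq_one_left e)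
    have n2 : s * t ≠ s := fun e => t0 (mul_eq_left.1 e)
    have n3 : s * t ≠ t := fun e => s0 (mul_eq_right.1 e)
    rw [Finset.card_insert_of_notMem (by simp [Ne.symm s0, Ne.symm t0, Ne.symm n1]),
      Finset.card_insert_of_notMem (by simp [hne, Ne.symm n2]),
      Finset.card_pair (Ne.symm n3)]
  refine h E ⟨hcard, ?_⟩
  haveI : Nontrivial E := Finite.one_lt_card_iff_nontrivial.1 (by omega)
  refine Monoid.exponent_eq_prime_iff (Fact.out : Nat.Prime 2) |>.2 fun x hx => ?_
  refine orderOf_eq_prime ?_ hx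
  obtain ⟨x, hx'⟩ := x
  refine Subtype.ext ?_
  simp only [SubmonoidClass.coe_pow, Subgroup.coe_one]
  rcases hx' with rfl | rfl | rfl | rfl
  · exact one_pow _
  · exact s1
  · exact t1
  · rw [sq, e5]

/-- Brauer-Suzuki, quaternion form. -/
theorem exists_normal_odd_of_quaternion (S : Sylow 2 G) {n : ℕ} [NeZero n]
    (e : (S : Subgroup G) ≃* QuaternionGroup n) {u : G} (u1 : u ^ 2 = 1) (u0 : u ≠ 1) :
    ∃ N : Subgroup G, N.Normal ∧ Odd (Nat.card N) ∧ ∀ g : G, u * g * u⁻¹ * g⁻¹ ∈ N :=
  exists_normal_odd (noFour_of_quaternion S e) u1 u0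

/-- Brauer-Suzuki: with trivial odd core the centre has order 2. -/
theorem card_center_eq_two (S : Sylow 2 G) {n : ℕ} [NeZero n] (hn : 2 ≤ n)
    (e : (S : Subgroup G) ≃* QuaternionGroup n)
    (hO : ∀ N : Subgroup G, N.Normal → Odd (Nat.card N) → N = ⊥) :
    Nat.card (Subgroup.center G) = 2 := by
  classical
  have hU := noFour_of_quaternion S e
  set aS : (S : Subgroup G) := e.symm (QuaternionGroup.a 1)
  set bS : (S : Subgroup G) := e.symm (QuaternionGroup.xa 0)
  set u : G := ((e.symm (QuaternionGroup.a (n : ZMod (2 * n))) : (S : Subgroup G)) : G) with hu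
  have u1 : u ^ 2 = 1 := by
    rw [hu, ← SubmonoidClass.coe_pow, ← map_pow, sq, QuaternionGroup.a_mul_a,
      show (n : ZMod (2 * n)) + n = 0 by rw [← Nat.cast_add, ← two_mul, ZMod.natCast_self]]
    exact congrArg Subtype.val (map_one e.symm)
  have u0 : u ≠ 1 := by
    intro h
    rw [hu, ← Subgroup.coe_one (S : Subgroup G), Subtype.coe_inj, ← map_one e.symm] at h
    have h' := QuaternionGroup.a.inj (e.symm.injective h)
    rw [ZMod.natCast_eq_zero_iff] at h'
    have := Nat.le_of_dvd (by omega) h'
    omega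
  have hucen := mem_center_of_noFour hU hO u1 u0
  -- central elements have order at most 2
  have hsq : ∀ z ∈ Subgroup.center G, z ^ 2 = 1 := by
    intro z hz
    obtain ⟨j, m, hm, hjm⟩ := Nat.exists_eq_pow_mul_and_not_dvd (orderOf_pos z).ne' 2 (by norm_num)
    have hm1 : m = 1 := by
      have hzj : z ^ 2 ^ j ∈ Subgroup.center G := pow_mem hz _
      have hord : orderOf (z ^ 2 ^ j) = m := by
        rw [orderOf_pow_of_dvd (by positivity) (Dvd.intro m hjm.symm), hjm,
          Nat.mul_div_cancel_left m (by positivity)]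
      haveI : (Subgroup.zpowers (z ^ 2 ^ j)).Normal := ⟨fun w hw g => by
        rwa [Subgroup.mem_center_iff.1 ((Subgroup.zpowers_le.2 hzj) hw) g, mul_inv_cancel_right]⟩
      have h0 := hO _ inferInstance (by
        rw [Nat.card_zpowers, hord, Nat.odd_iff]; omega)
      rw [Subgroup.zpowers_eq_bot, ← orderOf_eq_one_iff, hord] at h0
      exact h0
    rw [hm1, mul_one] at hjm
    by_contra h2
    -- a central element of order 4
    obtain ⟨w, hw, hw4⟩ : ∃ w ∈ Subgroup.center G, orderOf w = 4 := by
      have hj : 2 ≤ j := by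
        by_contra hlt
        exact h2 (orderOf_dvd_iff_pow_eq_one.1 (hjm ▸ (pow_dvd_pow 2 (show j ≤ 1 by omega))))
      refine ⟨z ^ 2 ^ (j - 2), pow_mem hz _, ?_⟩
      rw [orderOf_pow_of_dvd (by positivity) (hjm ▸ pow_dvd_pow 2 (by omega)), hjm,
        Nat.pow_div (by omega) (by norm_num), show j - (j - 2) = 2 by omega]
    -- an element of order 4 in a dihedral pair with `w`
    have hwS : w ∈ (S : Subgroup G) := by
      have hp : IsPGroup 2 (Subgroup.zpowers w) :=
        IsPGroup.of_card (n := 2) (by rw [Nat.card_zpowers, hw4]; rfl)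
      haveI : (Subgroup.zpowers w).Normal := ⟨fun v hv g => by
        rwa [Subgroup.mem_center_iff.1 ((Subgroup.zpowers_le.2 hw) hv) g, mul_inv_cancel_right]⟩
      exact (hp.le_sylow_of_normal S) (Subgroup.mem_zpowers w)
    set wQ := e ⟨w, hwS⟩ with hwQ
    have hwc : ∀ v, Commute wQ v := fun v => by
      obtain ⟨v', rfl⟩ := e.surjective v
      exact (show Commute (⟨w, hwS⟩ : (S : Subgroup G)) v' from
        Subtype.ext (Subgroup.mem_center_iff.1 hw v'.1).symm).map e
    have hwQ4 : orderOf wQ = 4 := by rw [hwQ, e.orderOf_eq, Subgroup.orderOf_mk, hw4]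
    cases hcase : wQ with
    | a i =>
      have h := (hwc (QuaternionGroup.xa 0)).eq
      rw [hcase, QuaternionGroup.a_mul_xa, QuaternionGroup.xa_mul_a] at h
      have h' := QuaternionGroup.xa.inj h
      have hd : orderOf wQ ∣ 2 := orderOf_dvd_of_pow_eq_one (by
        rw [hcase, sq, QuaternionGroup.a_mul_a, show i + i = 0 by linear_combination -h']
        rfl)
      rw [hwQ4] at hd
      omega
    | xa i =>
      have h := (hwc (QuaternionGroup.a 1)).eq
      rw [hcase, QuaternionGroup.a_mul_xa, QuaternionGroup.xa_mul_a] at h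
      have h' := QuaternionGroup.xa.inj h
      have h2 : ((2 : ℕ) : ZMod (2 * n)) = 0 := by push_cast; linear_combination h'
      rw [ZMod.natCast_eq_zero_iff] at h2
      have := Nat.le_of_dvd (by norm_num) h2
      omega
  have heq : Subgroup.center G = Subgroup.zpowers u := by
    refine le_antisymm (fun z hz => ?_) (Subgroup.zpowers_le.2 hucen)
    by_cases hz1 : z = 1
    · rw [hz1]; exact one_mem _
    · rw [hU z u (hsq z hz) hz1 u1 u0 (Subgroup.mem_center_iff.1 hz u).symm]
      exact Subgroup.mem_zpowers u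
  rw [heq, Nat.card_zpowers, orderOf_eq_prime u1 u0]

end CfsgLib.BrauerSuzuki
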