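import Cfsg.Agent.BrauerSuzuki.Eight
import Cfsg.Agent.TwoGroupsQ.UniqueInvolution
import Cfsg.Agent.SelfCentralizing.Basic

/-!
# The Brauer-Suzuki theorem

`mem_center_of_noFour`: in a finite group without four-groups and without nontrivial normal
subgroups of odd order every involution is central.  `exists_normal_odd` is the form without the
hypothesis on the normal subgroups of odd order, `card_center_eq_two` and
`exists_normal_odd_of_quaternion` are the forms for a quaternion Sylow subgroup.
-/

set_option autoImplicit false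
set_option linter.style.haveILetI false
set_option linter.unusedSectionVars false

namespace CfsgLib.BrauerSuzuki

open CfsgLib.Characters CfsgLib.PrincipalBlock CfsgLib.TwoGroupsQ

universe u

variable {G : Type u} [Group G]

/-- Two involutions of a 2-subgroup are equal. -/
theorem invol_eq [Finite G] (hU : NoFour G) {P : Subgroup G} (hP : IsPGroup 2 P) {x z : G}
    (hx : x ∈ P) (hz : z ∈ P) (x1 : x ^ 2 = 1) (x0 : x ≠ 1) (z1 : z ^ 2 = 1) (z0 : z ≠ 1) :
    x = z := by
  haveI : Nontrivial P := ⟨⟨⟨x, hx⟩, 1, fun h => x0 (congrArg Subtype.val h)⟩⟩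
  haveI := hP.center_nontrivial
  obtain ⟨k, hk0, hk⟩ := (hP.to_subgroup (Subgroup.center P)).nontrivial_iff_card.1 inferInstance
  obtain ⟨c, hc⟩ := exists_prime_orderOf_dvd_card' (G := Subgroup.center P) 2
    (hk ▸ dvd_pow_self 2 (by omega))
  have c1 : ((c : P) : G) ^ 2 = 1 :=
    congrArg (fun t : Subgroup.center P => ((t : P) : G)) (show c ^ 2 = 1 by rw [← hc]; exact pow_orderOf_eq_one c)
  have c0 : ((c : P) : G) ≠ 1 := fun h => by
    have : c = 1 := Subtype.ext (Subtype.ext h)
    rw [this, orderOf_one] at hc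
    omega
  have hcom : ∀ w ∈ P, Commute ((c : P) : G) w := fun w hw =>
    (congrArg Subtype.val (Subgroup.mem_center_iff.1 c.2 ⟨w, hw⟩)).symm
  exact (hU _ _ c1 c0 x1 x0 (hcom x hx)).symm.trans (hU _ _ c1 c0 z1 z0 (hcom z hz))

theorem hasUniqueOrderP [Finite G] (hU : NoFour G) {P : Subgroup G} (hP : IsPGroup 2 P) :
    HasUniqueOrderP P 2 :=
  hasUniqueOrderP_two fun x y hx hx0 hy hy0 =>
    Subtype.ext (invol_eq hU hP x.2 y.2 (congrArg Subtype.val hx) (fun h => hx0 (Subtype.ext h))
      (congrArg Subtype.val hy) (fun h => hy0 (Subtype.ext h)))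

open QuaternionGroup in
theorem quaternion_center {k : ℕ} (hk : 1 ≤ k) {z : QuaternionGroup (2 ^ k)}
    (hz : ∀ w, Commute z w) : z ^ 2 = 1 := by
  haveI : NeZero (2 ^ k) := ⟨by positivity⟩
  cases z with
  | a i =>
    have h := (hz (xa 0)).eq
    rw [a_mul_xa, xa_mul_a] at h
    have h' := QuaternionGroup.xa.inj h
    rw [sq, a_mul_a, show i + i = 0 by linear_combination -h']
    rfl
  | xa i =>
    have h := (hz (a 1)).eq
    rw [a_mul_xa, xa_mul_a] at h
    have h' := QuaternionGroup.xa.inj h
    have h2 : ((2 : ℕ) : ZMod (2 * 2 ^ k)) = 0 := by push_cast; linear_combination h'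
    rw [ZMod.natCast_eq_zero_iff] at h2
    have := Nat.le_of_dvd (by norm_num) h2
    have : 2 ^ 1 ≤ 2 ^ k := Nat.pow_le_pow_right (by norm_num) hk
    omega

variable [Fintype G]

/-- The Sylow subgroup of the centraliser of an element of order 4 is cyclic. -/
theorem isCyclic_sylow_cent (hU : NoFour G) {y : G} (hy : orderOf y = 4)
    (P : Sylow 2 (Subgroup.centralizer ({y} : Set G))) :
    IsCyclic P ∧ (⟨y, self_mem_cent y⟩ : Subgroup.centralizer ({y} : Set G)) ∈
      (P : Subgroup (Subgroup.centralizer ({y} : Set G))) := by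
  set yC : Subgroup.centralizer ({y} : Set G) := ⟨y, self_mem_cent y⟩ with hyC
  have hcen : yC ∈ Subgroup.center (Subgroup.centralizer ({y} : Set G)) :=
    Subgroup.mem_center_iff.2 fun c => Subtype.ext (Subgroup.mem_centralizer_singleton_iff.1 c.2)
  have hp : IsPGroup 2 (Subgroup.zpowers yC) :=
    IsPGroup.of_card (n := 2) (by rw [Nat.card_zpowers, ← Subgroup.orderOf_coe]; exact hy)
  haveI : (Subgroup.zpowers yC).Normal := by
    refine ⟨fun z hz c => ?_⟩
    rwa [Subgroup.mem_center_iff.1 ((Subgroup.zpowers_le.2 hcen) hz) c, mul_inv_cancel_right]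
  have hyP : yC ∈ (P : Subgroup (Subgroup.centralizer ({y} : Set G))) :=
    (hp.le_sylow_of_normal P) (Subgroup.mem_zpowers yC)
  refine ⟨?_, hyP⟩
  have hu : HasUniqueOrderP P 2 := by
    refine hasUniqueOrderP_two fun x z hx hx0 hz hz0 => ?_
    refine Subtype.ext (Subtype.ext (invol_eq hU
      (P := (P : Subgroup (Subgroup.centralizer ({y} : Set G))).map (Subgroup.subtype _))
      (P.isPGroup'.map _) ⟨_, x.2, rfl⟩ ⟨_, z.2, rfl⟩ ?_ ?_ ?_ ?_))
    · exact congrArg (fun t : P => ((t : Subgroup.centralizer ({y} : Set G)) : G)) hx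
    · exact fun h => hx0 (Subtype.ext (Subtype.ext h))
    · exact congrArg (fun t : P => ((t : Subgroup.centralizer ({y} : Set G)) : G)) hz
    · exact fun h => hz0 (Subtype.ext (Subtype.ext h))
  rcases isCyclic_or_quaternion P.isPGroup' hu with h | ⟨-, k, hk, ⟨e⟩⟩
  · exact h
  · exfalso
    set yP : P := ⟨yC, hyP⟩
    have hc : ∀ w, Commute (e yP) w := fun w => by
      obtain ⟨v, rfl⟩ := e.surjective w
      exact (show Commute yP v from Subtype.ext (Subgroup.mem_center_iff.1 hcen v.1).symm).map e
    have h := quaternion_center hk hc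
    rw [← map_pow, EmbeddingLike.map_eq_one_iff] at h
    exact (sq_of_four hy).2.1 (congrArg (fun t : P => ((t : Subgroup.centralizer ({y} : Set G)) : G)) h)

/-- A nonprincipal irreducible character with an involution in its kernel. -/
theorem exists_kernel (hU : NoFour G) (S : Sylow 2 G) {k : ℕ} (hk : 1 ≤ k)
    (e : (S : Subgroup G) ≃* QuaternionGroup (2 ^ k)) :
    ∃ (u : G) (χ : Cfsg.IrrCharacter G), u ^ 2 = 1 ∧ u ≠ 1 ∧ χ ≠ trivChar G ∧
      (χ : G → ℂ) u = (χ : G → ℂ) 1 := by
  haveI : NeZero (2 ^ k) := ⟨by positivity⟩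
  set aS : (S : Subgroup G) := e.symm (QuaternionGroup.a 1) with haS
  set bS : (S : Subgroup G) := e.symm (QuaternionGroup.xa 0) with hbS
  have hoa : orderOf aS = 2 * 2 ^ k := by
    rw [haS, e.symm.orderOf_eq, QuaternionGroup.orderOf_a_one]
  have hba : bS * aS * bS⁻¹ = aS⁻¹ := by
    rw [mul_inv_eq_iff_eq_mul, haS, hbS, ← map_inv, ← map_mul, ← map_mul]
    congr 1
    rw [QuaternionGroup.xa_mul_a, show (QuaternionGroup.a 1 : QuaternionGroup (2 ^ k))⁻¹ =
      QuaternionGroup.a (-1) from rfl, QuaternionGroup.a_mul_xa]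
    simp
  set a : G := (aS : G) with ha
  set b : G := (bS : G) with hb'
  have hoaG : orderOf a = 2 ^ (k + 1) := by
    rw [ha, Subgroup.orderOf_coe, hoa, pow_succ']
  have hbaG : b * a * b⁻¹ = a⁻¹ := congrArg Subtype.val hba
  set y : G := a ^ 2 ^ (k - 1) with hy'
  have hy : orderOf y = 4 := by
    rw [hy', orderOf_pow_of_dvd (by positivity) (hoaG ▸ pow_dvd_pow 2 (by omega)), hoaG,
      Nat.pow_div (by omega) (by norm_num), show k + 1 - (k - 1) = 2 by omega]
  have hb : b * y * b⁻¹ = y⁻¹ := by rw [hy', ← conj_pow, hbaG, inv_pow]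
  have hyS : y ∈ (S : Subgroup G) := pow_mem aS.2 _
  obtain ⟨y1, y2, -⟩ := sq_of_four hy
  set P : Sylow 2 (Subgroup.centralizer ({y} : Set G)) := default
  obtain ⟨hPc, hyP⟩ := isCyclic_sylow_cent hU hy P
  have hyC : orderOf (⟨y, self_mem_cent y⟩ : Subgroup.centralizer ({y} : Set G)) = 4 := by
    rw [← Subgroup.orderOf_coe]; exact hy
  obtain ⟨π, hπ1, hπy, hπ8, hπ4⟩ := exists_sign_hom P hPc hyC
  have hπ : IsSign y π := ⟨fun c hc => hπ1 c (by rwa [← Subgroup.orderOf_coe]), fun c hc => by
    rw [show c = ⟨y, self_mem_cent y⟩ from Subtype.ext hc]; exact hπy⟩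
  refine ⟨y ^ 2, ?_⟩
  suffices h : ∃ χ : Cfsg.IrrCharacter G, χ ≠ trivChar G ∧ (χ : G → ℂ) (y ^ 2) = (χ : G → ℂ) 1 by
    obtain ⟨χ, h1, h2⟩ := h
    exact ⟨χ, y1, y2, h1, h2⟩
  rcases Nat.lt_or_ge k 2 with hk2 | hk2
  swap
  · -- order at least 16
    have hamem : a ∈ Subgroup.centralizer ({y} : Set G) :=
      Subgroup.mem_centralizer_singleton_iff.2 ((Commute.refl a).pow_right _).eq
    have h8 := hπ8 ⟨a, hamem⟩ ⟨k + 1, by rw [Subgroup.orderOf_mk]; exact hoaG⟩ (by
      rw [Subgroup.orderOf_mk, hoaG]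
      exact (pow_dvd_pow 2 (by omega : 3 ≤ k + 1)))
    refine exists_kernel_of_not_invariant hU hy hb hπ ⟨⟨a, hamem⟩, fun h => h8 ?_⟩
    have hconj : conjHom hb (⟨a, hamem⟩ : Subgroup.centralizer ({y} : Set G)) = ⟨a, hamem⟩⁻¹ :=
      Subtype.ext (by
        show b⁻¹ * a * b = a⁻¹
        calc b⁻¹ * a * b = b⁻¹ * (b * a * b⁻¹)⁻¹ * b := by rw [hbaG, inv_inv]
          _ = a⁻¹ := by group)
    rw [hconj, map_inv] at h
    rw [sq]
    nth_rewrite 1 [← h]
    exact inv_mul_cancel _
  · -- order 8
    obtain rfl : k = 1 := by omega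
    have hS8 : Nat.card S = 8 := by
      rw [Nat.card_congr e.toEquiv, Nat.card_eq_fintype_card, QuaternionGroup.card]
      norm_num
    have hinvol : ∀ x ∈ (S : Subgroup G), x ^ 2 = 1 → x ≠ 1 → ∀ z ∈ (S : Subgroup G),
        z ^ 2 = 1 → z ≠ 1 → x = z := fun x hx x1 x0 z hz z1 z0 =>
      invol_eq hU S.isPGroup' hx hz x1 x0 z1 z0
    rcases exists_kernel_or_fused S hS8 hinvol hy hyS hb with h | hfus
    · exact h
    have hncyc : ¬ IsCyclic (S : Subgroup G) := fun h => by
      haveI := h
      haveI : IsMulCommutative (S : Subgroup G) := IsCyclic.isMulCommutative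
      have h2 := hba
      rw [mul_comm' bS aS, mul_inv_cancel_right] at h2
      have h3 : aS ^ 2 = 1 := by rw [sq]; nth_rewrite 1 [h2]; exact inv_mul_cancel _
      have := orderOf_dvd_of_pow_eq_one h3
      rw [hoa] at this
      norm_num at this
    have hexp : ∀ z ∈ (S : Subgroup G), z ≠ 1 → z ≠ y ^ 2 → orderOf z = 4 := by
      intro z hz z0 zu
      have hdvd : orderOf z ∣ 2 ^ 3 := by
        rw [← Subgroup.orderOf_mk z hz, show (2 : ℕ) ^ 3 = Nat.card S by rw [hS8]; rfl]
        exact orderOf_dvd_natCard _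
      obtain ⟨i, hi, hzi⟩ := (Nat.dvd_prime_pow Nat.prime_two).1 hdvd
      interval_cases i
      · exact absurd (orderOf_eq_one_iff.1 hzi) z0
      · exact absurd (hinvol z hz (by rw [show 2 = orderOf z from hzi.symm]; exact pow_orderOf_eq_one z)
          z0 _ (pow_mem hyS 2) y1 y2) zu
      · exact hzi
      · refine absurd ?_ hncyc
        exact isCyclic_of_orderOf_eq_card ⟨z, hz⟩ (by rw [Subgroup.orderOf_mk, hzi, hS8]; rfl)
    have hP4 : Nat.card P = 4 := by
      set P' : Subgroup G :=
        (P : Subgroup (Subgroup.centralizer ({y} : Set G))).map (Subgroup.subtype _) with hP'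
      have hcard : Nat.card P' = Nat.card P := Subgroup.card_subtype _ _
      obtain ⟨T, hT⟩ := (P.isPGroup'.map (Subgroup.subtype _)).exists_le_sylow
      have hT8 : Nat.card T = 8 := by
        rw [← hS8]
        exact Nat.card_congr (T.equiv S).toEquiv
      have hdvd : Nat.card P ∣ 2 ^ 3 := by
        rw [← hcard, show (2 : ℕ) ^ 3 = Nat.card T by rw [hT8]; rfl]
        exact Subgroup.card_dvd_of_le hT
      have h4 : 4 ∣ Nat.card P := by
        have := orderOf_dvd_natCard (⟨_, hyP⟩ : P)
        rwa [Subgroup.orderOf_mk, hyC] at this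
      obtain ⟨i, hi, hPi⟩ := (Nat.dvd_prime_pow Nat.prime_two).1 hdvd
      interval_cases i
      · rw [hPi] at h4; norm_num at h4
      · rw [hPi] at h4; norm_num at h4
      · exact hPi
      · refine absurd ?_ hncyc
        have hPT : P' = (T : Subgroup G) :=
          Subgroup.eq_of_le_of_card_ge hT (by rw [hcard, hPi, hT8]; rfl)
        have : IsCyclic P' := isCyclic_of_surjective
          ((P : Subgroup (Subgroup.centralizer ({y} : Set G))).equivMapOfInjective _
            (Subgroup.subtype_injective _)).toMonoidHom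
          ((P : Subgroup (Subgroup.centralizer ({y} : Set G))).equivMapOfInjective _
            (Subgroup.subtype_injective _)).surjective
        rw [hPT] at this
        exact (T.equiv S).isCyclic.1 this
    have hsq := hπ4 hP4
    have hval : ∀ c : Subgroup.centralizer ({y} : Set G), 4 ∣ orderOf (c : G) → (π c : ℂ) = -1 := by
      intro c hc
      have h : ((π c : ℂˣ) : ℂ) ^ 2 = 1 := by rw [← Units.val_pow_eq_pow_val, hsq, Units.val_one]
      refine (sq_eq_one_iff.1 h).resolve_left fun h1 => ?_
      have h1' : π c = 1 := Units.ext h1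
      have hp : π (c ^ (orderOf (c : G) / 4)) = 1 := by rw [map_pow, h1', one_pow]
      rcases power_eq hU hy (Subgroup.mem_centralizer_singleton_iff.1 c.2) hc
        (orderOf_pos _).ne' with e1 | e1
      · have := hπ.neg (c ^ (orderOf (c : G) / 4)) (by rw [SubmonoidClass.coe_pow]; exact e1)
        rw [hp] at this
        norm_num at this
      · have := hπ.neg (c ^ (orderOf (c : G) / 4))⁻¹ (by
          rw [Subgroup.coe_inv, SubmonoidClass.coe_pow, e1, inv_inv])
        rw [map_inv, hp] at this
        norm_num at this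
    have hinv : ∀ c, π (conjHom hb c) = π c := by
      intro c
      have ho : orderOf ((conjHom hb c : Subgroup.centralizer ({y} : Set G)) : G) = orderOf (c : G) := by
        show orderOf (b⁻¹ * (c : G) * b) = _
        simpa using (MulAut.conj b⁻¹).orderOf_eq (c : G)
      by_cases h4 : 4 ∣ orderOf (c : G)
      · exact Units.ext ((hval _ (ho.symm ▸ h4)).trans (hval c h4).symm)
      · rw [hπ.one c h4, hπ.one _ (by rwa [ho])]
    have hidx : Odd (Subgroup.zpowers (⟨y, self_mem_cent y⟩ :
        Subgroup.centralizer ({y} : Set G))).index := by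
      rw [show Subgroup.zpowers (⟨y, self_mem_cent y⟩ : Subgroup.centralizer ({y} : Set G)) =
        (P : Subgroup _) from Subgroup.eq_of_le_of_card_ge (Subgroup.zpowers_le.2 hyP)
          (by rw [Nat.card_zpowers, hyC, hP4]), ← Nat.not_even_iff_odd, even_iff_two_dvd]
      exact P.not_dvd_index
    exact exists_kernel_of_invariant hU hy hb hπ hinv hsq hidx hS8 hyS hexp hfus

omit [Fintype G] in
/-- **Brauer-Suzuki**: without four-groups and nontrivial normal subgroups of odd order, every
involution is central. -/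
theorem mem_center_of_noFour [Finite G] (hU : NoFour G)
    (hO : ∀ N : Subgroup G, N.Normal → Odd (Nat.card N) → N = ⊥) {u : G} (u1 : u ^ 2 = 1)
    (u0 : u ≠ 1) : u ∈ Subgroup.center G := by
  suffices main : ∀ (n : ℕ) (H : Type u) [Group H] [Finite H], Nat.card H = n → NoFour H →
      (∀ N : Subgroup H, N.Normal → Odd (Nat.card N) → N = ⊥) → ∀ u : H, u ^ 2 = 1 → u ≠ 1 →
      u ∈ Subgroup.center H from main _ G rfl hU hO u u1 u0
  intro n
  induction n using Nat.strong_induction_on with
  | _ n ih =>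
    intro H _ _ hn hU hO u u1 u0
    classical
    haveI := Fintype.ofFinite H
    set S : Sylow 2 H := default
    have h2 : 2 ∣ Nat.card H := by
      rw [← orderOf_eq_prime u1 u0]; exact orderOf_dvd_natCard u
    rcases isCyclic_or_quaternion S.isPGroup' (hasUniqueOrderP hU S.isPGroup') with hc |
        ⟨-, k, hk, ⟨e⟩⟩
    · -- cyclic Sylow subgroup
      have hne : Nat.card H ≠ 1 := fun h => by rw [h] at h2; omega
      have hmin : (Nat.card H).minFac = 2 :=
        le_antisymm (Nat.minFac_le_of_dvd le_rfl h2) (Nat.minFac_prime hne).two_le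
      have hcompl := MonoidHom.ker_transferSylow_isComplement' S (hc.normalizer_le_centralizer hmin)
      have hodd : Odd (Nat.card (MonoidHom.transferSylow S (hc.normalizer_le_centralizer hmin)).ker) := by
        rw [← Nat.not_even_iff_odd, even_iff_two_dvd]
        exact MonoidHom.not_dvd_card_ker_transferSylow S _
      have hbot := hO _ inferInstance hodd
      have hinj : Function.Injective (MonoidHom.transferSylow S (hc.normalizer_le_centralizer hmin)) :=
        (MonoidHom.ker_eq_bot_iff _).1 hbot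
      refine Subgroup.mem_center_iff.2 fun g => hinj ?_
      haveI := hc
      haveI : IsMulCommutative S := IsCyclic.isMulCommutative
      rw [map_mul, map_mul]
      exact mul_comm' _ _
    · obtain ⟨v, χ, v1, v0, hχ, hχv⟩ := exists_kernel hU S hk e
      have hvM : v ∈ charKer χ := mem_charKer.2 hχv
      have hlt : Nat.card (charKer χ) < n := by
        rw [← hn]
        refine lt_of_le_of_ne (Subgroup.card_le_card_group _) fun h => hχ ?_
        exact eq_trivChar_of_charKer_eq_top (Subgroup.eq_top_of_card_eq _ h)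
      have hOM : ∀ N : Subgroup (charKer χ), N.Normal → Odd (Nat.card N) → N = ⊥ := by
        intro N hN hodd
        haveI := CfsgLib.SelfCentralizing.core_characteristic (G := charKer χ) 2
        have hodd' : Odd (Nat.card ((Cfsg.pPrimeCore 2 (charKer χ)).map (charKer χ).subtype)) := by
          rw [Subgroup.card_subtype, ← Nat.coprime_two_right]
          exact (CfsgLib.SelfCentralizing.core_spec (G := charKer χ) 2).2
        have hb := hO _ inferInstance hodd'
        rw [Subgroup.map_eq_bot_iff_of_injective _ (Subgroup.subtype_injective _)] at hb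
        exact le_bot_iff.1 (hb ▸ CfsgLib.SelfCentralizing.le_core 2 hN hodd.coprime_two_right)
      have hUM : NoFour (charKer χ) := hU.of_injective _ (Subgroup.subtype_injective _)
      have hvc := ih _ hlt (charKer χ) rfl hUM hOM ⟨v, hvM⟩ (Subtype.ext v1)
        fun h => v0 (congrArg Subtype.val h)
      have hcentral : ∀ g : H, g * v * g⁻¹ = v := fun g => by
        have hm : g * v * g⁻¹ ∈ charKer χ := (charKer_normal χ).conj_mem v hvM g
        have h1 : (g * v * g⁻¹) ^ 2 = 1 := by rw [conj_pow, v1, mul_one, mul_inv_cancel]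
        have h0 : g * v * g⁻¹ ≠ 1 := fun h => v0 (conj_eq_one_iff.1 h)
        exact (hU v _ v1 v0 h1 h0
          (congrArg Subtype.val (Subgroup.mem_center_iff.1 hvc ⟨_, hm⟩)).symm).symm
      have huv : Commute v u := (mul_inv_eq_iff_eq_mul.1 (hcentral u)).symm
      rw [← hU v u v1 v0 u1 u0 huv]
      exact Subgroup.mem_center_iff.2 fun g => mul_inv_eq_iff_eq_mul.1 (hcentral g)

omit [Fintype G] in
/-- Without four-groups, an involution commutes with everything modulo a normal subgroup of odd
order. -/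
theorem exists_normal_odd [Finite G] (hU : NoFour G) {u : G} (u1 : u ^ 2 = 1) (u0 : u ≠ 1) :
    ∃ N : Subgroup G, N.Normal ∧ Odd (Nat.card N) ∧ ∀ g : G, u * g * u⁻¹ * g⁻¹ ∈ N := by
  obtain ⟨hn, hcop⟩ := CfsgLib.SelfCentralizing.core_spec (G := G) 2
  set O := Cfsg.pPrimeCore 2 G with hO
  haveI := hn
  have hodd : Odd (Nat.card O) := Nat.coprime_two_right.1 hcop
  -- the image of `u`
  have hu0 : (QuotientGroup.mk' O u) ≠ 1 := fun h => by
    rw [QuotientGroup.mk'_apply, QuotientGroup.eq_one_iff] at h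
    have h' := (Subgroup.orderOf_dvd_natCard O h)
    rw [orderOf_eq_prime u1 u0] at h'
    exact Nat.not_even_iff_odd.2 hodd (even_iff_two_dvd.2 h')
  have hu1 : (QuotientGroup.mk' O u) ^ 2 = 1 := by rw [← map_pow, u1, map_one]
  have hU' : NoFour (G ⧸ O) := by
    intro s t s1 s0 t1 t0 hc
    -- lift the four-group to a 2-subgroup of `G`
    have hP : IsPGroup 2 (Subgroup.closure ({s, t} : Set (G ⧸ O))) := by
      intro x
      refine ⟨1, ?_⟩
      have key : ∀ z ∈ Subgroup.closure ({s, t} : Set (G ⧸ O)), z = 1 ∨ z = s ∨ z = t ∨ z = s * t := by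
        have hss : s * s = 1 := by rw [← sq, s1]
        have htt : t * t = 1 := by rw [← sq, t1]
        have hts : t * s = s * t := hc.symm.eq
        intro z hz
        induction hz using Subgroup.closure_induction with
        | mem z hz => rcases hz with rfl | rfl <;> simp
        | one => simp
        | mul a c _ _ ha hc' =>
          have e1 : s * (s * t) = t := by rw [← mul_assoc, hss, one_mul]
          have e2 : t * (s * t) = s := by rw [← mul_assoc, hts, mul_assoc, htt, mul_one]
          have e3 : s * t * s = t := by rw [mul_assoc, hts, e1]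
          have e4 : s * t * t = s := by rw [mul_assoc, htt, mul_one]
          have e5 : s * t * (s * t) = 1 := by rw [← mul_assoc, e3, htt]
          rcases ha with rfl | rfl | rfl | rfl <;> rcases hc' with rfl | rfl | rfl | rfl <;>
            simp [hss, htt, hts, e1, e2, e3, e4, e5]
        | inv a _ ha =>
          rcases ha with rfl | rfl | rfl | rfl
          · simp
          · exact Or.inr (Or.inl (inv_eq_of_mul_eq_one_right (by rw [← sq, s1])))
          · exact Or.inr (Or.inr (Or.inl (inv_eq_of_mul_eq_one_right (by rw [← sq, t1]))))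
          · exact Or.inr (Or.inr (Or.inr (by
              rw [mul_inv_rev, inv_eq_of_mul_eq_one_right htt, inv_eq_of_mul_eq_one_right hss, hts])))
      have h2 : (x : G ⧸ O) ^ 2 = 1 := by
        rcases key x x.2 with h | h | h | h <;> rw [h]
        · exact one_pow _
        · exact s1
        · exact t1
        · rw [hc.mul_pow, s1, t1, one_mul]
      exact Subtype.ext (by simpa using h2)
    obtain ⟨Q, hQ⟩ := hP.exists_le_sylow
    obtain ⟨S⟩ : Nonempty (Sylow 2 G) := inferInstance
    obtain ⟨g, hg⟩ := MulAction.exists_smul_eq (G ⧸ O)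
      (S.mapSurjective (QuotientGroup.mk'_surjective O)) Q
    obtain ⟨g₀, rfl⟩ := QuotientGroup.mk'_surjective O g
    have hlift : ∀ z ∈ (Q : Subgroup (G ⧸ O)),
        ∃ x ∈ (g₀ • S : Sylow 2 G).toSubgroup, QuotientGroup.mk' O x = z := by
      intro z hz
      rw [← hg, Sylow.coe_subgroup_smul, Sylow.coe_mapSurjective] at hz
      obtain ⟨w, ⟨x, hx, rfl⟩, rfl⟩ := hz
      refine ⟨g₀ * x * g₀⁻¹, ?_, by simp⟩
      rw [Sylow.coe_subgroup_smul]
      exact ⟨x, hx, rfl⟩
    obtain ⟨x, hx, hxs⟩ := hlift s (hQ (Subgroup.subset_closure (by simp)))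
    obtain ⟨z, hz, hzt⟩ := hlift t (hQ (Subgroup.subset_closure (by simp)))
    have hsq : ∀ w ∈ (g₀ • S : Sylow 2 G).toSubgroup, QuotientGroup.mk' O w = 1 → w = 1 := by
      intro w hw h
      rw [QuotientGroup.mk'_apply, QuotientGroup.eq_one_iff] at h
      obtain ⟨j, hj⟩ := IsPGroup.iff_orderOf.1 (g₀ • S : Sylow 2 G).isPGroup' ⟨w, hw⟩
      rw [Subgroup.orderOf_mk] at hj
      have h' := Subgroup.orderOf_dvd_natCard O h
      rw [hj] at h'
      have : j = 0 := by
        by_contra hj0
        exact Nat.not_even_iff_odd.2 hodd (even_iff_two_dvd.2 ((dvd_pow_self 2 hj0).trans h'))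
      rw [this, pow_zero, orderOf_eq_one_iff] at hj
      exact hj
    rw [← hxs, ← hzt]
    congr 1
    exact invol_eq hU (g₀ • S : Sylow 2 G).isPGroup' hx hz
      (hsq _ (pow_mem hx 2) (by rw [map_pow, hxs, s1])) (fun h => s0 (by rw [← hxs, h, map_one]))
      (hsq _ (pow_mem hz 2) (by rw [map_pow, hzt, t1])) (fun h => t0 (by rw [← hzt, h, map_one]))
  have hO' : ∀ N : Subgroup (G ⧸ O), N.Normal → Odd (Nat.card N) → N = ⊥ := by
    intro N hN hNodd
    have hcard : Nat.card (N.comap (QuotientGroup.mk' O)) = Nat.card O * Nat.card N := by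
      refine mul_right_cancel₀ (Subgroup.index_ne_zero_of_finite (H := N)) ?_
      rw [mul_assoc, Subgroup.card_mul_index N, ← Subgroup.index_eq_card O, Subgroup.card_mul_index O,
        ← Subgroup.index_comap_of_surjective N (QuotientGroup.mk'_surjective O),
        Subgroup.card_mul_index]
    have hle : N.comap (QuotientGroup.mk' O) ≤ O := CfsgLib.SelfCentralizing.le_core 2 inferInstance
      (by rw [hcard]; exact (hodd.mul hNodd).coprime_two_right)
    refine eq_bot_iff.2 fun z hz => ?_
    obtain ⟨x, rfl⟩ := QuotientGroup.mk'_surjective O z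
    rw [Subgroup.mem_bot, QuotientGroup.mk'_apply, QuotientGroup.eq_one_iff]
    exact hle hz
  have hcen := mem_center_of_noFour hU' hO' hu1 hu0
  refine ⟨O, hn, hodd, fun g => ?_⟩
  rw [← QuotientGroup.eq_one_iff]
  have h := Subgroup.mem_center_iff.1 hcen (QuotientGroup.mk' O g)
  show QuotientGroup.mk' O (u * g * u⁻¹ * g⁻¹) = 1
  rw [map_mul, map_mul, map_mul, map_inv, map_inv, ← h, mul_inv_cancel_right, mul_inv_cancel]

end CfsgLib.BrauerSuzuki
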