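import Mathlib.Analysis.Complex.Basic
import Mathlib.Tactic.Ring
import Mathlib.Tactic.LinearCombination
import Mathlib.Algebra.Ring.Int.Parity

/-!
# Arithmetic for the Brauer-Suzuki theorem

The signed degrees `a` and signed values `s` at the involution of the exceptional characters
satisfy `1 + ∑ a = 0`, `1 + ∑ s = 0` and `1 + ∑ s²/a = 0`.
-/

set_option autoImplicit false

namespace CfsgLib.BrauerSuzuki

/-- Two exceptional characters: both contain the involution in their kernel. -/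
theorem two_num {a b s t : ℂ} (ha : a ≠ 0) (hb : b ≠ 0) (h1 : 1 + a + b = 0)
    (h2 : 1 + s + t = 0) (h3 : 1 + s ^ 2 / a + t ^ 2 / b = 0) : s = a := by
  have h4 : a * b + s ^ 2 * b + t ^ 2 * a = 0 := by
    field_simp at h3
    linear_combination h3
  have hb' : b = -1 - a := by linear_combination h1
  have ht : t = -1 - s := by linear_combination h2
  rw [hb', ht] at h4
  have h5 : (s - a) ^ 2 = 0 := by linear_combination -h4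
  exact sub_eq_zero.1 ((pow_eq_zero_iff two_ne_zero).1 h5)

/-- Three exceptional characters, two of them with the same data. -/
theorem three_num_pair {a c s r : ℂ} (ha : a ≠ 0) (hc : c ≠ 0) (h1 : 1 + a + a + c = 0)
    (h2 : 1 + s + s + r = 0) (h3 : 1 + s ^ 2 / a + s ^ 2 / a + r ^ 2 / c = 0) : s = a := by
  have h4 : a * c + s ^ 2 * c + s ^ 2 * c + r ^ 2 * a = 0 := by
    field_simp at h3
    linear_combination h3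
  have hc' : c = -1 - a - a := by linear_combination h1
  have hr : r = -1 - s - s := by linear_combination h2
  rw [hc', hr] at h4
  have h5 : (s - a) ^ 2 = 0 := by linear_combination (-1 / 2 : ℂ) * h4
  exact sub_eq_zero.1 ((pow_eq_zero_iff two_ne_zero).1 h5)

theorem odd_case {a₁ a₂ a₃ k₁ k₂ k₃ : ℤ} (ha₁ : Odd a₁) (ha₃ : Odd a₃) (hk₁ : Odd k₁)
    (hk₂ : Odd k₂) (hk₃ : Even k₃) (h : (4 : ℤ) ∣ a₂ - a₁)
    (heq : k₁ ^ 2 * (a₂ * a₃) + k₂ ^ 2 * (a₁ * a₃) + k₃ ^ 2 * (a₁ * a₂) = 0) : False := by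
  obtain ⟨b, rfl⟩ := ha₁
  obtain ⟨d, rfl⟩ := ha₃
  obtain ⟨c, rfl⟩ := hk₁
  obtain ⟨e, rfl⟩ := hk₂
  obtain ⟨f, rfl⟩ := hk₃
  obtain ⟨t, ht⟩ := h
  obtain rfl : a₂ = 2 * b + 1 + 4 * t := by omega
  have key : (4 : ℤ) * (t * (2 * d + 1) + (c ^ 2 + c) * ((2 * b + 1 + 4 * t) * (2 * d + 1)) +
      (e ^ 2 + e) * ((2 * b + 1) * (2 * d + 1)) +
      f ^ 2 * ((2 * b + 1) * (2 * b + 1 + 4 * t)) + (b + d + 2 * b * d)) + 2 = 0 := by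
    linear_combination heq
  omega

/-- Three exceptional characters in the quaternion case. -/
theorem halving : ∀ (n : ℕ) (a₁ a₂ a₃ k₁ k₂ k₃ : ℤ),
    k₁.natAbs + k₂.natAbs + k₃.natAbs ≤ n → Odd a₁ → Odd a₂ → Odd a₃ →
    ((2 : ℤ) ∣ k₁ - k₂ → (4 : ℤ) ∣ a₁ - a₂) → ((2 : ℤ) ∣ k₁ - k₃ → (4 : ℤ) ∣ a₁ - a₃) →
    ((2 : ℤ) ∣ k₂ - k₃ → (4 : ℤ) ∣ a₂ - a₃) → k₁ + k₂ + k₃ = 0 →
    k₁ ^ 2 * (a₂ * a₃) + k₂ ^ 2 * (a₁ * a₃) + k₃ ^ 2 * (a₁ * a₂) = 0 →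
    k₁ = 0 ∧ k₂ = 0 ∧ k₃ = 0 := by
  intro n
  induction n with
  | zero => intro a₁ a₂ a₃ k₁ k₂ k₃ hn; intros; omega
  | succ n ih =>
    intro a₁ a₂ a₃ k₁ k₂ k₃ hn o₁ o₂ o₃ h₁₂ h₁₃ h₂₃ hsum heq
    rcases Int.even_or_odd k₁ with e₁ | e₁ <;> rcases Int.even_or_odd k₂ with e₂ | e₂
    · obtain ⟨l₁, rfl⟩ := e₁
      obtain ⟨l₂, rfl⟩ := e₂
      obtain ⟨l₃, rfl⟩ : ∃ l₃, k₃ = l₃ + l₃ := ⟨-l₁ - l₂, by omega⟩
      have hd₁₂ := h₁₂ (by omega)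
      have hd₁₃ := h₁₃ (by omega)
      have hd₂₃ := h₂₃ (by omega)
      rcases Nat.eq_zero_or_pos (l₁.natAbs + l₂.natAbs + l₃.natAbs) with h0 | h0
      · omega
      obtain ⟨r₁, r₂, r₃⟩ := ih a₁ a₂ a₃ l₁ l₂ l₃ (by omega) o₁ o₂ o₃ (fun _ => hd₁₂)
        (fun _ => hd₁₃) (fun _ => hd₂₃) (by omega) (by linarith)
      omega
    · -- `k₂`, `k₃` odd
      obtain ⟨l, hl⟩ := e₁
      obtain ⟨m, hm⟩ := e₂
      exact (odd_case (a₁ := a₂) (a₂ := a₃) (a₃ := a₁) (k₁ := k₂) (k₂ := k₃) (k₃ := k₁)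
        o₂ o₁ ⟨m, hm⟩ ⟨-l - m - 1, by omega⟩ ⟨l, hl⟩
        ((dvd_sub_comm).1 (h₂₃ (by omega))) (by linear_combination heq)).elim
    · -- `k₁`, `k₃` odd
      obtain ⟨l, hl⟩ := e₁
      obtain ⟨m, hm⟩ := e₂
      exact (odd_case (a₁ := a₁) (a₂ := a₃) (a₃ := a₂) (k₁ := k₁) (k₂ := k₃) (k₃ := k₂)
        o₁ o₂ ⟨l, hl⟩ ⟨-l - m - 1, by omega⟩ ⟨m, hm⟩
        ((dvd_sub_comm).1 (h₁₃ (by omega))) (by linear_combination heq)).elim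
    · -- `k₁`, `k₂` odd
      obtain ⟨l, hl⟩ := e₁
      obtain ⟨m, hm⟩ := e₂
      exact (odd_case (a₁ := a₁) (a₂ := a₂) (a₃ := a₃) (k₁ := k₁) (k₂ := k₂) (k₃ := k₃)
        o₁ o₃ ⟨l, hl⟩ ⟨m, hm⟩ ⟨-l - m - 1, by omega⟩
        ((dvd_sub_comm).1 (h₁₂ (by omega))) heq).elim

/-- The conclusion of the quaternion case, over `ℂ`. -/
theorem three_num {a₁ a₂ a₃ s₁ s₂ s₃ k₁ k₂ k₃ : ℤ}
    (e₁ : a₁ - s₁ = 4 * k₁) (e₂ : a₂ - s₂ = 4 * k₂) (e₃ : a₃ - s₃ = 4 * k₃)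
    (g₁ : (4 : ℤ) ∣ a₁ - 2 * k₁ - 1) (g₂ : (4 : ℤ) ∣ a₂ - 2 * k₂ - 1)
    (g₃ : (4 : ℤ) ∣ a₃ - 2 * k₃ - 1) (h1 : 1 + a₁ + a₂ + a₃ = 0) (h2 : 1 + s₁ + s₂ + s₃ = 0)
    (h3 : (1 : ℂ) + (s₁ : ℂ) ^ 2 / a₁ + (s₂ : ℂ) ^ 2 / a₂ + (s₃ : ℂ) ^ 2 / a₃ = 0) :
    s₁ = a₁ := by
  have o₁ : Odd a₁ := Int.odd_iff.2 (by omega)
  have o₂ : Odd a₂ := Int.odd_iff.2 (by omega)
  have o₃ : Odd a₃ := Int.odd_iff.2 (by omega)
  have n₁ : (a₁ : ℂ) ≠ 0 := Int.cast_ne_zero.2 (by omega)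
  have n₂ : (a₂ : ℂ) ≠ 0 := Int.cast_ne_zero.2 (by omega)
  have n₃ : (a₃ : ℂ) ≠ 0 := Int.cast_ne_zero.2 (by omega)
  obtain rfl : s₁ = a₁ - 4 * k₁ := by omega
  obtain rfl : s₂ = a₂ - 4 * k₂ := by omega
  obtain rfl : s₃ = a₃ - 4 * k₃ := by omega
  have hk : k₁ + k₂ + k₃ = 0 := by omega
  field_simp at h3
  norm_cast at h3
  have h4 : 16 * (k₁ ^ 2 * (a₂ * a₃) + k₂ ^ 2 * (a₁ * a₃) + k₃ ^ 2 * (a₁ * a₂)) = 0 := by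
    have h1' : a₁ + a₂ + a₃ = -1 := by omega
    linear_combination h3 - (a₁ * a₂ * a₃) * h1' + 8 * (a₁ * a₂ * a₃) * hk
  obtain ⟨r, -, -⟩ := halving _ a₁ a₂ a₃ k₁ k₂ k₃ le_rfl o₁ o₂ o₃ (fun h => by omega)
    (fun h => by omega) (fun h => by omega) hk (by omega)
  omega

end CfsgLib.BrauerSuzuki
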