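import Cfsg.Agent.BrauerSuzuki.Signs
import Cfsg.Agent.BrauerSuzuki.Numeric
import Cfsg.Agent.Characters.Linear
import Cfsg.Agent.PrincipalBlock.Kernel

/-!
# The constituents of `Ind (1 - π)`

Besides the principal character there are two or three, each with multiplicity `±1`.  With two,
`y²` is in the kernel of both.
-/

set_option autoImplicit false
set_option linter.style.haveILetI false
set_option linter.unusedSectionVars false

namespace CfsgLib.BrauerSuzuki

open scoped ComplexConjugate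
open CfsgLib.Characters CfsgLib.PrincipalBlock

universe u

variable {G : Type u} [Group G] [Fintype G]

/-- The data of a sign character on `C(y)`. -/
structure IsSign (y : G) (π : Subgroup.centralizer ({y} : Set G) →* ℂˣ) : Prop where
  one : ∀ c : Subgroup.centralizer ({y} : Set G), ¬ 4 ∣ orderOf (c : G) → π c = 1
  neg : ∀ c : Subgroup.centralizer ({y} : Set G), (c : G) = y → (π c : ℂ) = -1

/-- The function `1 - π`. -/
noncomputable def thetaOf {y : G} (π : Subgroup.centralizer ({y} : Set G) →* ℂˣ) :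
    Subgroup.centralizer ({y} : Set G) → ℂ :=
  fun c => 1 - (π c : ℂ)

variable {y b : G} {π : Subgroup.centralizer ({y} : Set G) →* ℂˣ}

theorem self_mem_cent (y : G) : y ∈ Subgroup.centralizer ({y} : Set G) :=
  Subgroup.mem_centralizer_singleton_iff.2 rfl

/-- Conjugation by `b` as an endomorphism of `C(y)`. -/
def conjHom (hb : b * y * b⁻¹ = y⁻¹) :
    Subgroup.centralizer ({y} : Set G) →* Subgroup.centralizer ({y} : Set G) where
  toFun c := ⟨b⁻¹ * c * b, conj_mem_cent hb c.2⟩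
  map_one' := Subtype.ext (by simp)
  map_mul' c d := Subtype.ext (by simp [mul_assoc])

theorem twist_eq (hb : b * y * b⁻¹ = y⁻¹) (θ : Subgroup.centralizer ({y} : Set G) → ℂ) :
    twist hb θ = fun c => θ (conjHom hb c) := rfl

theorem conjHom_bijective (hb : b * y * b⁻¹ = y⁻¹) : Function.Bijective (conjHom hb) := by
  refine (Finite.injective_iff_bijective (f := conjHom hb)).1 fun c d h => Subtype.ext ?_
  simpa [conjHom] using congrArg Subtype.val h

theorem isClassFunction_twist (hb : b * y * b⁻¹ = y⁻¹) {θ : Subgroup.centralizer ({y} : Set G) → ℂ}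
    (hθ : Cfsg.IsClassFunction (Subgroup.centralizer ({y} : Set G)) θ) :
    Cfsg.IsClassFunction (Subgroup.centralizer ({y} : Set G)) (twist hb θ) := fun c d => by
  simp only [twist_eq, map_mul, map_inv]
  exact hθ _ _

section

variable [Fintype (Subgroup.centralizer ({y} : Set G))]

theorem linChar_ne (hπ : IsSign y π) :
    (fun c => (π c : ℂ)) ≠ fun _ : Subgroup.centralizer ({y} : Set G) => (1 : ℂ) := fun h => by
  have := congrFun h ⟨y, self_mem_cent y⟩
  simp only [hπ.neg ⟨y, self_mem_cent y⟩ rfl] at this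
  norm_num at this

theorem supported_theta (hπ : IsSign y π) : Supported y (thetaOf π) :=
  ⟨fun c d => by simp [thetaOf], fun c hc => by simp [thetaOf, hπ.one c hc]⟩

theorem theta_eq : thetaOf π = (fun _ => (1 : ℂ)) - fun c => (π c : ℂ) := rfl

theorem twist_theta_eq (hb : b * y * b⁻¹ = y⁻¹) :
    twist hb (thetaOf π) = (fun _ => (1 : ℂ)) - fun c => ((π.comp (conjHom hb)) c : ℂ) := rfl

theorem isGen_theta : Cfsg.IsGeneralizedCharacter (Subgroup.centralizer ({y} : Set G)) (thetaOf π) :=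
  ⟨_, _, isCharacter_of_isIrr isIrr_one, isCharacter_of_isIrr (isIrr_linChar π), rfl⟩

theorem classInner_irr_diff {H : Type u} [Group H] [Fintype H] {α β γ δ : H → ℂ}
    (hα : Cfsg.IsIrrCharacter H α) (hβ : Cfsg.IsIrrCharacter H β) (hγ : Cfsg.IsIrrCharacter H γ)
    (hδ : Cfsg.IsIrrCharacter H δ) [Decidable (α = γ)] [Decidable (α = δ)] [Decidable (β = γ)]
    [Decidable (β = δ)] :
    Cfsg.classInner (α - β) (γ - δ) = ((if α = γ then (1 : ℂ) else 0) - if α = δ then 1 else 0) -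
      ((if β = γ then (1 : ℂ) else 0) - if β = δ then 1 else 0) := by
  have key : ∀ {φ ψ : H → ℂ} [Decidable (φ = ψ)], Cfsg.IsIrrCharacter H φ →
      Cfsg.IsIrrCharacter H ψ → Cfsg.classInner φ ψ = if φ = ψ then 1 else 0 := by
    intro φ ψ _ h1 h2
    split_ifs with h
    · rw [h]; exact classInner_isIrr_self h2
    · exact classInner_isIrr_ne h1 h2 h
  rw [classInner_sub_left, classInner_sub_right, classInner_sub_right, key hα hγ, key hα hδ,
    key hβ hγ, key hβ hδ]

end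

/-- The multiplicities in `Ind (1 - π)`. -/
theorem exists_mult (hU : NoFour G) (hy : orderOf y = 4) (hb : b * y * b⁻¹ = y⁻¹)
    (hπ : IsSign y π) :
    ∃ m : Cfsg.IrrCharacter G → ℤ, ∃ N : ℤ,
      Cfsg.indFun (Subgroup.centralizer ({y} : Set G)) (thetaOf π) = ∑ χ, (m χ : ℂ) • (χ : G → ℂ) ∧
      (∀ χ : Cfsg.IrrCharacter G,
        Cfsg.classInner (Cfsg.indFun (Subgroup.centralizer ({y} : Set G)) (thetaOf π)) (χ : G → ℂ) =
          m χ) ∧
      m (trivChar G) = 1 ∧ ∑ χ, m χ ^ 2 = N ∧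
      (((∀ c, π (conjHom hb c) = π c) ∧ N = 4) ∨ ((∃ c, π (conjHom hb c) ≠ π c) ∧ N = 3)) := by
  classical
  haveI : Fintype (Subgroup.centralizer ({y} : Set G)) := Fintype.ofFinite _
  obtain ⟨m, hm, hmi⟩ := exists_int_coeff (isGen_indFun (Subgroup.centralizer ({y} : Set G))
    (isGen_theta (π := π)))
  refine ⟨m, ∑ χ, m χ ^ 2, hm, hmi, ?_, rfl, ?_⟩
  · have h1 : ((m (trivChar G) : ℤ) : ℂ) = (1 : ℤ) := by
      rw [← hmi, classInner_indFun _ _ (isClassFunction_of_isIrr (trivChar G).2), theta_eq]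
      simp only [trivChar_apply]
      rw [classInner_sub_left, classInner_isIrr_self isIrr_one,
        classInner_isIrr_ne (isIrr_linChar π) isIrr_one (linChar_ne hπ)]
      simp
    exact_mod_cast h1
  · set π' : Subgroup.centralizer ({y} : Set G) →* ℂˣ := π.comp (conjHom hb) with hπ'
    have hne' : (fun c => (π' c : ℂ)) ≠
        fun _ : Subgroup.centralizer ({y} : Set G) => (1 : ℂ) := fun h => by
      have h1 := congrFun h ⟨y⁻¹, Subgroup.inv_mem _ (self_mem_cent y)⟩
      have h2 : conjHom hb ⟨y⁻¹, Subgroup.inv_mem _ (self_mem_cent y)⟩ = ⟨y, self_mem_cent y⟩ :=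
        Subtype.ext (by show b⁻¹ * y⁻¹ * b = y; rw [← hb]; group)
      simp only [hπ', MonoidHom.comp_apply, h2, hπ.neg ⟨y, self_mem_cent y⟩ rfl] at h1
      norm_num at h1
    have hN : ((∑ χ, m χ ^ 2 : ℤ) : ℂ) =
        3 + if (fun c => (π c : ℂ)) = fun c => (π' c : ℂ) then 1 else 0 := by
      rw [← classInner_self_eq_sum_sq (isClassFunction_indFun _ _) m hmi,
        classInner_indFun_indFun hU hy hb (supported_theta hπ) (supported_theta hπ), twist_theta_eq,
        theta_eq, ← hπ']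
      rw [classInner_irr_diff isIrr_one (isIrr_linChar π) isIrr_one (isIrr_linChar π),
        classInner_irr_diff isIrr_one (isIrr_linChar π) isIrr_one (isIrr_linChar π'),
        if_neg (linChar_ne hπ).symm, if_neg (linChar_ne hπ),
        if_neg hne'.symm]
      simp only [if_true]
      ring
    by_cases h : (fun c => (π c : ℂ)) = fun c => (π' c : ℂ)
    · rw [if_pos h] at hN
      exact Or.inl ⟨fun c => (Units.ext (congrFun h c)).symm, by norm_num at hN; exact_mod_cast hN⟩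
    · rw [if_neg h, add_zero] at hN
      refine Or.inr ⟨?_, by exact_mod_cast hN⟩
      by_contra hcon
      push Not at hcon
      exact h (funext fun c => by rw [hπ', MonoidHom.comp_apply, hcon c])

/-- The nonprincipal constituents. -/
theorem exists_support {m : Cfsg.IrrCharacter G → ℤ} {N : ℤ} (h1 : m (trivChar G) = 1)
    (hN : ∑ χ, m χ ^ 2 = N) (hN4 : N ≤ 4) :
    ∃ T : Finset (Cfsg.IrrCharacter G), trivChar G ∉ T ∧ (∀ χ ∈ T, m χ = 1 ∨ m χ = -1) ∧
      (T.card : ℤ) = N - 1 ∧ ∀ χ, χ ≠ trivChar G → χ ∉ T → m χ = 0 := by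
  classical
  set T := (Finset.univ.erase (trivChar G)).filter (fun χ => m χ ≠ 0) with hT
  have hmem : ∀ χ, χ ∈ T ↔ χ ≠ trivChar G ∧ m χ ≠ 0 := fun χ => by simp [hT]
  have hsum : ∑ χ ∈ T, m χ ^ 2 = N - 1 := by
    rw [hT, Finset.sum_filter_of_ne (p := fun χ => m χ ≠ 0) (f := fun χ => m χ ^ 2)
      (fun χ _ h => by intro h0; exact h (by rw [h0]; norm_num)),
      Finset.sum_erase_eq_sub (Finset.mem_univ _), hN, h1]
    norm_num
  have hone : ∀ χ ∈ T, m χ = 1 ∨ m χ = -1 := by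
    intro χ hχ
    have hle : m χ ^ 2 ≤ 3 := by
      refine le_trans (Finset.single_le_sum (f := fun χ => m χ ^ 2) (fun _ _ => sq_nonneg _) hχ) ?_
      rw [hsum]; omega
    have hlt : -2 < m χ ∧ m χ < 2 := ⟨by nlinarith, by nlinarith⟩
    have := ((hmem χ).1 hχ).2
    omega
  refine ⟨T, fun h => ((hmem _).1 h).1 rfl, hone, ?_, fun χ hne hχ => ?_⟩
  · rw [← hsum, Finset.sum_congr rfl (g := fun _ => (1 : ℤ)) fun χ hχ => by
      rcases hone χ hχ with h | h <;> rw [h] <;> norm_num]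
    simp
  · by_contra h
    exact hχ ((hmem χ).2 ⟨hne, h⟩)

/-- A sum over the irreducible characters, split at the principal one and the support. -/
theorem sum_support {m : Cfsg.IrrCharacter G → ℤ} {T : Finset (Cfsg.IrrCharacter G)}
    (h1 : m (trivChar G) = 1) (h0 : trivChar G ∉ T)
    (hrest : ∀ χ, χ ≠ trivChar G → χ ∉ T → m χ = 0) (f : Cfsg.IrrCharacter G → ℂ) :
    ∑ χ, (m χ : ℂ) * f χ = f (trivChar G) + ∑ χ ∈ T, (m χ : ℂ) * f χ := by
  classical
  rw [← Finset.add_sum_erase _ _ (Finset.mem_univ (trivChar G)), h1, Int.cast_one, one_mul]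
  congr 1
  symm
  refine Finset.sum_subset (fun χ hχ => Finset.mem_erase.2 ⟨fun e => h0 (e ▸ hχ), Finset.mem_univ _⟩)
    fun χ hχ hχT => ?_
  rw [hrest χ (Finset.mem_erase.1 hχ).1 hχT]
  simp

/-- The relations for the nonprincipal constituents, with signed degrees and values. -/
theorem support_relations (hU : NoFour G) (hy : orderOf y = 4) (hπ : IsSign y π)
    {m : Cfsg.IrrCharacter G → ℤ}
    (hm : Cfsg.indFun (Subgroup.centralizer ({y} : Set G)) (thetaOf π) = ∑ χ, (m χ : ℂ) • (χ : G → ℂ))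
    {T : Finset (Cfsg.IrrCharacter G)} (h1 : m (trivChar G) = 1) (h0 : trivChar G ∉ T)
    (hpm : ∀ χ ∈ T, m χ = 1 ∨ m χ = -1) (hrest : ∀ χ, χ ≠ trivChar G → χ ∉ T → m χ = 0) :
    (1 + ∑ χ ∈ T, (m χ : ℂ) * (χ : G → ℂ) 1 = 0) ∧
      (1 + ∑ χ ∈ T, (m χ : ℂ) * (χ : G → ℂ) (y ^ 2) = 0) ∧
      1 + ∑ χ ∈ T, ((m χ : ℂ) * (χ : G → ℂ) (y ^ 2)) ^ 2 / ((m χ : ℂ) * (χ : G → ℂ) 1) = 0 := by
  haveI : Fintype (Subgroup.centralizer ({y} : Set G)) := Fintype.ofFinite _
  obtain ⟨r1, r2, r3⟩ := relations hU hy (supported_theta hπ) m hm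
  rw [sum_support h1 h0 hrest] at r1 r2 r3
  refine ⟨by simpa using r1, by simpa using r2, ?_⟩
  refine Eq.trans ?_ r3
  simp only [trivChar_apply, one_pow, div_one]
  refine congrArg _ (Finset.sum_congr rfl fun χ hχ => ?_)
  have hd := irr_one_ne_zero χ.2
  rcases hpm χ hχ with h | h <;> rw [h] <;> push_cast <;> field_simp

/-- With two nonprincipal constituents, `y²` is in the kernel of both. -/
theorem exists_kernel_of_not_invariant (hU : NoFour G) (hy : orderOf y = 4)
    (hb : b * y * b⁻¹ = y⁻¹) (hπ : IsSign y π) (hne : ∃ c, π (conjHom hb c) ≠ π c) :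
    ∃ χ : Cfsg.IrrCharacter G, χ ≠ trivChar G ∧ (χ : G → ℂ) (y ^ 2) = (χ : G → ℂ) 1 := by
  classical
  obtain ⟨m, N, hm, -, h1, hN, ⟨hinv, -⟩ | ⟨-, rfl⟩⟩ := exists_mult hU hy hb hπ
  · exact absurd hne (fun ⟨c, hc⟩ => hc (hinv c))
  obtain ⟨T, h0, hpm, hcard, hrest⟩ := exists_support h1 hN (by norm_num)
  obtain ⟨χ, ψ, hne', rfl⟩ := Finset.card_eq_two.1 (show T.card = 2 by omega)
  obtain ⟨r1, r2, r3⟩ := support_relations hU hy hπ hm h1 h0 hpm hrest
  rw [Finset.sum_pair hne'] at r1 r2 r3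
  have hz : ∀ {x : Cfsg.IrrCharacter G}, x ∈ ({χ, ψ} : Finset (Cfsg.IrrCharacter G)) →
      (m x : ℂ) ≠ 0 := fun hx => Int.cast_ne_zero.2 (by rcases hpm _ hx with h | h <;> omega)
  have hχT : χ ∈ ({χ, ψ} : Finset (Cfsg.IrrCharacter G)) := by simp
  have hψT : ψ ∈ ({χ, ψ} : Finset (Cfsg.IrrCharacter G)) := by simp
  refine ⟨χ, fun e => h0 (e ▸ hχT), mul_left_cancel₀ (hz hχT) ?_⟩
  exact two_num (a := (m χ : ℂ) * (χ : G → ℂ) 1) (b := (m ψ : ℂ) * (ψ : G → ℂ) 1)
    (s := (m χ : ℂ) * (χ : G → ℂ) (y ^ 2)) (t := (m ψ : ℂ) * (ψ : G → ℂ) (y ^ 2)) (mul_ne_zero (hz hχT) (irr_one_ne_zero χ.2))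
    (mul_ne_zero (hz hψT) (irr_one_ne_zero ψ.2)) (by linear_combination r1)
    (by linear_combination r2) (by linear_combination r3)

end CfsgLib.BrauerSuzuki
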