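import Cfsg.Agent.BrauerSuzuki.Fusion

/-!
# A nonprincipal character with the involution in its kernel: Sylow subgroups of order 8
-/

set_option autoImplicit false
set_option linter.style.haveILetI false
set_option linter.unusedSectionVars false

namespace CfsgLib.BrauerSuzuki

open scoped ComplexConjugate
open CfsgLib.Characters CfsgLib.PrincipalBlock

universe u

variable {G : Type u} [Group G] [Fintype G]

/-- `χ(1) - χ(y²)` is divisible by 4 when `χ(y) = χ(y⁻¹)`. -/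
theorem exists_four_mul {y : G} (hy : orderOf y = 4) (χ : Cfsg.IrrCharacter G)
    (hreal : (χ : G → ℂ) y⁻¹ = (χ : G → ℂ) y) :
    ∃ k : ℕ, (χ : G → ℂ) 1 - (χ : G → ℂ) (y ^ 2) = 4 * k := by
  classical
  haveI : Fintype (Subgroup.zpowers y) := Fintype.ofFinite _
  obtain ⟨l, hl⟩ := exists_injective_hom (Subgroup.zpowers y)
  set ℓ : ℂ := ((l ⟨y, Subgroup.mem_zpowers y⟩ : ℂˣ) : ℂ) with hℓ
  obtain ⟨y1, y2, -⟩ := sq_of_four hy
  have hℓ2 : ℓ ^ 2 = -1 := by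
    have h4 : (ℓ ^ 2) ^ 2 = 1 := by
      rw [← pow_mul, hℓ, ← Units.val_pow_eq_pow_val, ← map_pow, show (⟨y, Subgroup.mem_zpowers y⟩ :
        Subgroup.zpowers y) ^ (2 * 2) = 1 from Subtype.ext (by
          simp only [SubmonoidClass.coe_pow, Subgroup.coe_one]; rw [pow_mul]; exact y1),
        map_one, Units.val_one]
    refine (sq_eq_one_iff.1 h4).resolve_left fun h => y2 ?_
    rw [hℓ, ← Units.val_pow_eq_pow_val, ← map_pow, Units.val_eq_one,
      map_eq_one_iff l hl] at h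
    simpa using congrArg Subtype.val h
  obtain ⟨k, hk⟩ := classInner_characters (isCharacter_restrict (Subgroup.zpowers y)
    (isCharacter_of_isIrr χ.2)) (isCharacter_of_isIrr (isIrr_linChar l))
  refine ⟨k, ?_⟩
  rw [← hk, Cfsg.classInner, Nat.card_zpowers, hy]
  let E : Fin 4 ≃ Subgroup.zpowers y :=
    (finCongr hy.symm).trans (finEquivZPowers (isOfFinOrder_of_finite y))
  have hE : ∀ i : Fin 4, (E i : G) = y ^ (i : ℕ) := fun i => by
    simp [E, finEquivZPowers_apply]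
  have hlE : ∀ i : Fin 4, ((l (E i) : ℂˣ) : ℂ) = ℓ ^ (i : ℕ) := fun i => by
    rw [hℓ, ← Units.val_pow_eq_pow_val, ← map_pow]
    exact congrArg (fun x => ((l x : ℂˣ) : ℂ)) (Subtype.ext (by simp [hE]))
  rw [← E.sum_comp]
  simp only [hE, hlE, Fin.sum_univ_four, map_pow]
  have hc : (conj ℓ) ^ 2 = -1 := by rw [← map_pow, hℓ2, map_neg, map_one]
  have h3 : y ^ 3 = y⁻¹ := (inv_eq_cube hy).symm
  have e0 : ((0 : Fin 4) : ℕ) = 0 := rfl
  have e1 : ((1 : Fin 4) : ℕ) = 1 := rfl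
  have e2 : ((2 : Fin 4) : ℕ) = 2 := rfl
  have e3 : ((3 : Fin 4) : ℕ) = 3 := rfl
  simp only [e0, e1, e2, e3, pow_zero, pow_one, h3, hreal, hc]
  have hc3 : (conj ℓ) ^ 3 = -conj ℓ := by rw [pow_succ, hc]; ring
  rw [hc3]
  push_cast
  ring

/-- `χ(1) + χ(y²) + 6 χ(y)` is divisible by 8 when all elements of order 4 of `S` are conjugate. -/
theorem exists_eight_mul {S : Subgroup G} (h8 : Nat.card S = 8) {y : G} (hy : orderOf y = 4)
    (hyS : y ∈ S) (hexp : ∀ z ∈ S, z ≠ 1 → z ≠ y ^ 2 → orderOf z = 4)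
    (hfus : ∀ z ∈ S, orderOf z = 4 → IsConj y z) (χ : Cfsg.IrrCharacter G) :
    ∃ k : ℕ, (χ : G → ℂ) 1 + (χ : G → ℂ) (y ^ 2) + 6 * (χ : G → ℂ) y = 8 * k := by
  classical
  haveI : Fintype S := Fintype.ofFinite _
  obtain ⟨-, y2, -⟩ := sq_of_four hy
  obtain ⟨k, hk⟩ := classInner_characters (isCharacter_restrict S
    (isCharacter_of_isIrr χ.2)) (CfsgLib.Characters.isCharacter_one (G := S))
  refine ⟨k, ?_⟩
  rw [← hk, Cfsg.classInner, h8]
  simp only [map_one, mul_one]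
  have hne : (⟨y ^ 2, pow_mem hyS 2⟩ : S) ∈ Finset.univ.erase (1 : S) :=
    Finset.mem_erase.2 ⟨fun h => y2 (congrArg Subtype.val h), Finset.mem_univ _⟩
  rw [← Finset.add_sum_erase _ _ (Finset.mem_univ (1 : S)), ← Finset.add_sum_erase _ _ hne,
    Finset.sum_congr rfl (g := fun _ => (χ : G → ℂ) y) fun z hz => ?_]
  · have hc : ((Finset.univ.erase (1 : S)).erase ⟨y ^ 2, pow_mem hyS 2⟩).card = 6 := by
      rw [Finset.card_erase_of_mem hne, Finset.card_erase_of_mem (Finset.mem_univ _),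
        Finset.card_univ, ← Nat.card_eq_fintype_card, h8]
    rw [Finset.sum_const, hc, nsmul_eq_mul]
    push_cast
    ring
  · obtain ⟨hz2, hz1⟩ := Finset.mem_erase.1 hz
    obtain ⟨hz1, -⟩ := Finset.mem_erase.1 hz1
    exact (classFunction_isConj (isClassFunction_of_isIrr χ.2) (hfus z z.2 (hexp z z.2
      (fun h => hz1 (Subtype.ext h)) (fun h => hz2 (Subtype.ext h))))).symm

/-- The kernel in the case of a Sylow subgroup of order 8. -/
theorem exists_kernel_of_invariant (hU : NoFour G) {y b : G} (hy : orderOf y = 4)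
    (hb : b * y * b⁻¹ = y⁻¹) {π : Subgroup.centralizer ({y} : Set G) →* ℂˣ} (hπ : IsSign y π)
    (hinv : ∀ c, π (conjHom hb c) = π c) (hsq : ∀ c, π c ^ 2 = 1)
    (hidx : Odd (Subgroup.zpowers (⟨y, self_mem_cent y⟩ : Subgroup.centralizer ({y} : Set G))).index)
    {S : Subgroup G} (h8 : Nat.card S = 8) (hyS : y ∈ S)
    (hexp : ∀ z ∈ S, z ≠ 1 → z ≠ y ^ 2 → orderOf z = 4)
    (hfus : ∀ z ∈ S, orderOf z = 4 → IsConj y z) :
    ∃ χ : Cfsg.IrrCharacter G, χ ≠ trivChar G ∧ (χ : G → ℂ) (y ^ 2) = (χ : G → ℂ) 1 := by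
  classical
  by_contra hno
  push Not at hno
  obtain ⟨m, N, hm, hmi, h1, hN, ⟨-, rfl⟩ | ⟨⟨c, hc⟩, -⟩⟩ := exists_mult hU hy hb hπ
  swap
  · exact hc (hinv c)
  obtain ⟨T, h0, hpm, hcard, hrest⟩ := exists_support h1 hN le_rfl
  have hT3 : T.card = 3 := by omega
  have hval := real_and_value hU hy hb hπ hinv hsq hidx hm hmi h1 h0 hpm hT3 hrest hno
  have data : ∀ χ ∈ T, ∃ a s k : ℤ, (m χ : ℂ) * (χ : G → ℂ) 1 = a ∧
      (m χ : ℂ) * (χ : G → ℂ) (y ^ 2) = s ∧ a - s = 4 * k ∧ (4 : ℤ) ∣ a - 2 * k - 1 := by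
    intro χ hχ
    obtain ⟨hreal, hv⟩ := hval χ hχ
    have hinvy : (χ : G → ℂ) y⁻¹ = (χ : G → ℂ) y := by
      rw [character_inv (isCharacter_of_isIrr χ.2), hv, map_intCast]
    obtain ⟨n, hn⟩ := exists_degree (isCharacter_of_isIrr χ.2)
    obtain ⟨k₂, hk₂⟩ := exists_four_mul hy χ hinvy
    obtain ⟨k₁, hk₁⟩ := exists_eight_mul h8 hy hyS hexp hfus χ
    have hu : (χ : G → ℂ) (y ^ 2) = (((n : ℤ) - 4 * k₂ : ℤ) : ℂ) := by
      rw [hn] at hk₂
      push_cast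
      linear_combination -hk₂
    refine ⟨m χ * n, m χ * ((n : ℤ) - 4 * k₂), m χ * k₂, by rw [hn]; push_cast; ring,
      by rw [hu]; push_cast; ring, by ring, ?_⟩
    rw [hn, hu, hv] at hk₁
    have hint : (n : ℤ) + ((n : ℤ) - 4 * k₂) + 6 * m χ = 8 * k₁ := by exact_mod_cast hk₁
    rcases hpm χ hχ with e | e <;> rw [e] at hint ⊢ <;> omega
  obtain ⟨χ₁, χ₂, χ₃, h12, h13, h23, rfl⟩ := Finset.card_eq_three.1 hT3
  obtain ⟨r1, r2, r3⟩ := support_relations hU hy hπ hm h1 h0 hpm hrest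
  obtain ⟨a₁, s₁, k₁, ea₁, es₁, ek₁, g₁⟩ := data χ₁ (by simp)
  obtain ⟨a₂, s₂, k₂, ea₂, es₂, ek₂, g₂⟩ := data χ₂ (by simp)
  obtain ⟨a₃, s₃, k₃, ea₃, es₃, ek₃, g₃⟩ := data χ₃ (by simp)
  have hsum : ∀ f : Cfsg.IrrCharacter G → ℂ,
      ∑ x ∈ ({χ₁, χ₂, χ₃} : Finset (Cfsg.IrrCharacter G)), f x = f χ₁ + f χ₂ + f χ₃ := fun f => by
    rw [Finset.sum_insert (by simp [h12, h13]), Finset.sum_pair h23, add_assoc]
  rw [hsum, ea₁, ea₂, ea₃] at r1
  rw [hsum, es₁, es₂, es₃] at r2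
  rw [hsum, ea₁, ea₂, ea₃, es₁, es₂, es₃] at r3
  have key : s₁ = a₁ := three_num ek₁ ek₂ ek₃ g₁ g₂ g₃
    (by exact_mod_cast (show (1 : ℂ) + a₁ + a₂ + a₃ = 0 by linear_combination r1))
    (by exact_mod_cast (show (1 : ℂ) + s₁ + s₂ + s₃ = 0 by linear_combination r2))
    (by linear_combination r3)
  refine hno χ₁ (fun e => h0 (by simp [e])) ?_
  have hz : (m χ₁ : ℂ) ≠ 0 := Int.cast_ne_zero.2 (by rcases hpm χ₁ (by simp) with h | h <;> omega)
  exact mul_left_cancel₀ hz (by rw [es₁, ea₁, key])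

end CfsgLib.BrauerSuzuki
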