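import Cfsg.Agent.Characters.Generalized
import Cfsg.Agent.CharactersDeep.ClassPairs

/-!
# Exceptional characters at an element of order 4

In a group without commuting distinct involutions let `y` have order 4 and `b` invert it.  The
elements of `C(y)` of order divisible by 4 form a TI set whose normaliser is `C(y)⟨b⟩`, and none of
them is inverted by an involution.  So induction from `C(y)` is an isometry on the class functions
supported there, and the induced functions are orthogonal to the distribution of products of two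
conjugates of the involution `y²`.
-/

set_option autoImplicit false
set_option linter.style.haveILetI false
set_option linter.unusedSectionVars false

namespace CfsgLib.BrauerSuzuki

open scoped ComplexConjugate
open CfsgLib.Characters

universe u

variable {G : Type u} [Group G]

/-- Commuting involutions are equal: the group has no four-group. -/
def NoFour (G : Type u) [Group G] : Prop :=
  ∀ s t : G, s ^ 2 = 1 → s ≠ 1 → t ^ 2 = 1 → t ≠ 1 → Commute s t → s = t

theorem NoFour.of_injective (h : NoFour G) {H : Type*} [Group H] (f : H →* G)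
    (hf : Function.Injective f) :
    ∀ s t : H, s ^ 2 = 1 → s ≠ 1 → t ^ 2 = 1 → t ≠ 1 → Commute s t → s = t := fun s t h1 h2 h3 h4 hc =>
  hf (h (f s) (f t) (by rw [← map_pow, h1, map_one]) ((map_ne_one_iff f hf).2 h2)
    (by rw [← map_pow, h3, map_one]) ((map_ne_one_iff f hf).2 h4) (hc.map f))

theorem sq_of_four {y : G} (hy : orderOf y = 4) :
    (y ^ 2) ^ 2 = 1 ∧ y ^ 2 ≠ 1 ∧ y⁻¹ ≠ y := by
  refine ⟨by rw [← pow_mul, ← orderOf_dvd_iff_pow_eq_one, hy], fun h => ?_, fun h => ?_⟩
  · have := orderOf_dvd_of_pow_eq_one h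
    rw [hy] at this
    omega
  · have := orderOf_dvd_of_pow_eq_one (show y ^ 2 = 1 by rw [sq]; nth_rewrite 1 [← h]; group)
    rw [hy] at this
    omega

/-- Two commuting elements of order 4 generate the same subgroup. -/
theorem eq_or_eq_inv (hU : NoFour G) {y z : G} (hy : orderOf y = 4) (hz : orderOf z = 4)
    (hc : Commute z y) : z = y ∨ z = y⁻¹ := by
  obtain ⟨hy1, hy2, -⟩ := sq_of_four hy
  obtain ⟨hz1, hz2, -⟩ := sq_of_four hz
  have hsq : z ^ 2 = y ^ 2 := hU _ _ hz1 hz2 hy1 hy2 (hc.pow_pow 2 2)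
  have hc' : Commute (z * y⁻¹) (y ^ 2) :=
    ((hc.pow_right 2).mul_left ((Commute.refl y).inv_left.pow_right 2))
  have h1 : (z * y⁻¹) ^ 2 = 1 := by
    rw [hc.inv_right.mul_pow, hsq, inv_pow, mul_inv_cancel]
  by_cases h : z * y⁻¹ = 1
  · exact Or.inl (mul_inv_eq_one.1 h)
  · refine Or.inr ?_
    have h2 := hU _ _ h1 h hy1 hy2 hc'
    calc z = z * y⁻¹ * y := by group
      _ = y ^ 3 := by rw [h2]; group
      _ = y⁻¹ := eq_inv_of_mul_eq_one_left (by rw [← pow_succ, show 3 + 1 = 4 from rfl, ← hy, pow_orderOf_eq_one])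

/-- An element of `C(y)` of order divisible by 4 has `y` or `y⁻¹` as a power. -/
theorem power_eq (hU : NoFour G) {y g : G} (hy : orderOf y = 4) (hg : Commute g y)
    (h4 : 4 ∣ orderOf g) (h0 : orderOf g ≠ 0) :
    g ^ (orderOf g / 4) = y ∨ g ^ (orderOf g / 4) = y⁻¹ :=
  eq_or_eq_inv hU hy (orderOf_pow_orderOf_div h0 h4) (hg.pow_left _)

variable [Fintype G]

/-- Conjugating one such element into `C(y)` normalises `⟨y⟩`. -/
theorem conj_eq (hU : NoFour G) {y g x : G} (hy : orderOf y = 4) (hg : Commute g y)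
    (h4 : 4 ∣ orderOf g) (hx : Commute (x⁻¹ * g * x) y) :
    x⁻¹ * y * x = y ∨ x⁻¹ * y * x = y⁻¹ := by
  set k := orderOf g / 4 with hk
  have hord : orderOf (x⁻¹ * g * x) = orderOf g := by
    simpa using (MulAut.conj x⁻¹).orderOf_eq g
  have h2 := power_eq hU hy hx (hord.symm ▸ h4) (orderOf_pos _).ne'
  rw [hord, ← hk] at h2
  have hpow : (x⁻¹ * g * x) ^ k = x⁻¹ * g ^ k * x := by
    simpa using conj_pow (a := x⁻¹) (b := g) (i := k)
  rw [hpow] at h2
  rcases power_eq hU hy hg h4 (orderOf_pos _).ne' with h1 | h1 <;> rw [← hk] at h1 <;> rw [h1] at h2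
  · exact h2
  · rcases h2 with h2 | h2 <;> have h3 := congrArg (·⁻¹) h2 <;>
      simp only [mul_inv_rev, inv_inv, ← mul_assoc] at h3
    · exact Or.inr h3
    · exact Or.inl h3

/-- No involution inverts an element of `C(y)` of order divisible by 4. -/
theorem not_inverted (hU : NoFour G) {y g s : G} (hy : orderOf y = 4) (hg : Commute g y)
    (h4 : 4 ∣ orderOf g) (hs : s ^ 2 = 1) (hinv : s * g * s⁻¹ = g⁻¹) : False := by
  obtain ⟨hy1, hy2, hy3⟩ := sq_of_four hy
  have hpow : s * g ^ (orderOf g / 4) * s⁻¹ = (g ^ (orderOf g / 4))⁻¹ := by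
    rw [← conj_pow, hinv, inv_pow]
  have hsy : s * y * s⁻¹ = y⁻¹ := by
    rcases power_eq hU hy hg h4 (orderOf_pos _).ne' with h | h <;> rw [h] at hpow
    · exact hpow
    · have := congrArg (·⁻¹) hpow
      simpa [mul_assoc] using this
  have hs1 : s ≠ 1 := fun h => hy3 (by rw [← hsy, h]; group)
  have hc : Commute s (y ^ 2) := by
    have h1 : s * y ^ 2 * s⁻¹ = y ^ 2 := by
      rw [← conj_pow, hsy, inv_pow]
      exact inv_eq_of_mul_eq_one_left (by rw [← sq]; exact hy1)
    show s * y ^ 2 = y ^ 2 * s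
    nth_rewrite 2 [← h1]
    group
  have hsy2 := hU _ _ hs hs1 hy1 hy2 hc
  refine hy3 ?_
  rw [← hsy, hsy2]
  group

/-! ### Induction from `C(y)` -/

/-- A class function on `C(y)` vanishing on the elements of order prime to 4. -/
def Supported (y : G) (θ : Subgroup.centralizer ({y} : Set G) → ℂ) : Prop :=
  Cfsg.IsClassFunction (Subgroup.centralizer ({y} : Set G)) θ ∧
    ∀ c : Subgroup.centralizer ({y} : Set G), ¬ 4 ∣ orderOf (c : G) → θ c = 0

theorem conj_mem_cent {y b : G} (hb : b * y * b⁻¹ = y⁻¹) {c : G}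
    (hc : c ∈ Subgroup.centralizer ({y} : Set G)) :
    b⁻¹ * c * b ∈ Subgroup.centralizer ({y} : Set G) := by
  rw [Subgroup.mem_centralizer_singleton_iff] at hc ⊢
  have h1 : b * y = y⁻¹ * b := by rw [← hb]; group
  have h2 : y * b⁻¹ = b⁻¹ * y⁻¹ := by
    calc y * b⁻¹ = b⁻¹ * (b * y) * b⁻¹ := by group
      _ = b⁻¹ * y⁻¹ := by rw [h1]; group
  have h3 : c * y⁻¹ = y⁻¹ * c := ((show Commute c y from hc).inv_right).eq
  calc b⁻¹ * c * b * y = b⁻¹ * c * (b * y) := by group
    _ = b⁻¹ * (c * y⁻¹) * b := by rw [h1]; group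
    _ = (b⁻¹ * y⁻¹) * c * b := by rw [h3]; group
    _ = y * (b⁻¹ * c * b) := by rw [← h2]; group

/-- Conjugation by `b` on functions on `C(y)`. -/
def twist {y b : G} (hb : b * y * b⁻¹ = y⁻¹) (θ : Subgroup.centralizer ({y} : Set G) → ℂ) :
    Subgroup.centralizer ({y} : Set G) → ℂ :=
  fun c => θ ⟨b⁻¹ * c * b, conj_mem_cent hb c.2⟩

theorem indFun_eq_zero {y : G} {θ : Subgroup.centralizer ({y} : Set G) → ℂ}
    (hθ : Supported y θ) {g : G} (hg : ¬ 4 ∣ orderOf g) :
    Cfsg.indFun (Subgroup.centralizer ({y} : Set G)) θ g = 0 := by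
  simp only [Cfsg.indFun]
  refine mul_eq_zero_of_right _ (Finset.sum_eq_zero fun x _ => ?_)
  by_cases hx : x⁻¹ * g * x ∈ Subgroup.centralizer ({y} : Set G)
  · rw [extendByZero_of_mem _ _ hx]
    refine hθ.2 _ ?_
    rwa [show orderOf (x⁻¹ * g * x) = orderOf g by simpa using (MulAut.conj x⁻¹).orderOf_eq g]
  · exact extendByZero_of_not_mem _ _ hx

theorem indFun_eq (hU : NoFour G) {y b : G} (hy : orderOf y = 4) (hb : b * y * b⁻¹ = y⁻¹)
    {θ : Subgroup.centralizer ({y} : Set G) → ℂ} (hθ : Supported y θ)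
    (c : Subgroup.centralizer ({y} : Set G)) (h4 : 4 ∣ orderOf (c : G)) :
    Cfsg.indFun (Subgroup.centralizer ({y} : Set G)) θ c = θ c + twist hb θ c := by
  classical
  haveI : Fintype (Subgroup.centralizer ({y} : Set G)) := Fintype.ofFinite _
  obtain ⟨-, -, hy3⟩ := sq_of_four hy
  have hmem : ∀ x : G, x ∈ Subgroup.centralizer ({y} : Set G) ↔ x⁻¹ * y * x = y := fun x => by
    rw [Subgroup.mem_centralizer_singleton_iff]
    constructor
    · intro h; rw [mul_assoc, ← h]; group
    · intro h; nth_rewrite 1 [← h]; group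
  have hcy : Commute (c : G) y := Subgroup.mem_centralizer_singleton_iff.1 c.2
  have hterm : ∀ x : G,
      Cfsg.extendByZero (Subgroup.centralizer ({y} : Set G)) θ (x⁻¹ * (c : G) * x) =
        Cfsg.extendByZero (Subgroup.centralizer ({y} : Set G)) (fun _ => θ c) x +
        Cfsg.extendByZero (Subgroup.centralizer ({y} : Set G)) (fun _ => twist hb θ c) (b⁻¹ * x) := by
    intro x
    by_cases hx : x ∈ Subgroup.centralizer ({y} : Set G)
    · have hbx : b⁻¹ * x ∉ Subgroup.centralizer ({y} : Set G) := fun h => hy3 <| by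
        have h1 : (b⁻¹ : G) ∈ Subgroup.centralizer ({y} : Set G) := by
          simpa using Subgroup.mul_mem _ h (Subgroup.inv_mem _ hx)
        have h2 := (hmem _).1 h1
        rw [inv_inv, hb] at h2
        exact h2
      rw [extendByZero_of_mem _ _ hx, extendByZero_of_not_mem _ _ hbx, add_zero,
        extendByZero_of_mem _ _ (Subgroup.mul_mem _ (Subgroup.mul_mem _ (Subgroup.inv_mem _ hx) c.2) hx)]
      refine Eq.trans (congrArg θ (Subtype.ext ?_)) (hθ.1 c ⟨x⁻¹, Subgroup.inv_mem _ hx⟩)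
      simp
    · rw [extendByZero_of_not_mem _ _ hx, zero_add]
      by_cases hbx : b⁻¹ * x ∈ Subgroup.centralizer ({y} : Set G)
      · have hc' := conj_mem_cent hb c.2
        have heq : x⁻¹ * (c : G) * x = (b⁻¹ * x)⁻¹ * (b⁻¹ * c * b) * (b⁻¹ * x) := by group
        rw [extendByZero_of_mem _ _ hbx, heq,
          extendByZero_of_mem _ _ (Subgroup.mul_mem _ (Subgroup.mul_mem _ (Subgroup.inv_mem _ hbx) hc') hbx)]
        have := hθ.1 ⟨_, hc'⟩ ⟨(b⁻¹ * x)⁻¹, Subgroup.inv_mem _ hbx⟩
        refine Eq.trans (congrArg θ (Subtype.ext ?_)) this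
        simp
      · rw [extendByZero_of_not_mem _ _ hbx]
        refine extendByZero_of_not_mem _ _ fun h => ?_
        rcases conj_eq hU hy hcy h4 (Subgroup.mem_centralizer_singleton_iff.1 h) with h1 | h1
        · exact hx ((hmem x).2 h1)
        · refine hbx ((hmem _).2 ?_)
          have h2 := congrArg (·⁻¹) h1
          simp only [mul_inv_rev, inv_inv, ← mul_assoc] at h2
          calc (b⁻¹ * x)⁻¹ * y * (b⁻¹ * x) = x⁻¹ * (b * y * b⁻¹) * x := by group
            _ = y := by rw [hb]; exact h2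
  simp only [Cfsg.indFun, Finset.sum_congr rfl fun x _ => hterm x, Finset.sum_add_distrib]
  have hs : ∀ a : ℂ, ∑ x : G,
      Cfsg.extendByZero (Subgroup.centralizer ({y} : Set G)) (fun _ => a) x =
        Nat.card (Subgroup.centralizer ({y} : Set G)) * a := fun a => by
    have := sum_subgroup_extendByZero (Subgroup.centralizer ({y} : Set G)) (fun _ => a) (fun _ => 1)
    simpa [Nat.card_eq_fintype_card] using this
  rw [Fintype.sum_bijective (fun x => b⁻¹ * x) (Group.mulLeft_bijective _) _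
      (fun x => Cfsg.extendByZero (Subgroup.centralizer ({y} : Set G)) (fun _ => twist hb θ c) x)
      (fun x => rfl), hs, hs, ← mul_add, ← mul_assoc, inv_mul_cancel₀ (subgroup_card_ne_zero _), one_mul]

/-- The induction isometry. -/
theorem classInner_indFun_indFun (hU : NoFour G) {y b : G} (hy : orderOf y = 4)
    (hb : b * y * b⁻¹ = y⁻¹) [Fintype (Subgroup.centralizer ({y} : Set G))]
    {θ η : Subgroup.centralizer ({y} : Set G) → ℂ} (hθ : Supported y θ) (hη : Supported y η) :
    Cfsg.classInner (Cfsg.indFun _ θ) (Cfsg.indFun _ η) =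
      Cfsg.classInner θ η + Cfsg.classInner θ (twist hb η) := by
  rw [classInner_indFun _ θ (isClassFunction_indFun _ η), ← classInner_add_right]
  simp only [Cfsg.classInner]
  refine congrArg _ (Finset.sum_congr rfl fun c _ => ?_)
  by_cases h4 : 4 ∣ orderOf (c : G)
  · rw [indFun_eq hU hy hb hη c h4, Pi.add_apply]
  · rw [hθ.2 c h4, zero_mul, zero_mul]

/-- The three linear relations between the constituents of an induced function. -/
theorem relations (hU : NoFour G) {y : G} (hy : orderOf y = 4)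
    {θ : Subgroup.centralizer ({y} : Set G) → ℂ} (hθ : Supported y θ)
    (m : Cfsg.IrrCharacter G → ℤ)
    (hm : Cfsg.indFun (Subgroup.centralizer ({y} : Set G)) θ = ∑ χ, (m χ : ℂ) • (χ : G → ℂ)) :
    (∑ χ, (m χ : ℂ) * (χ : G → ℂ) 1 = 0) ∧ (∑ χ, (m χ : ℂ) * (χ : G → ℂ) (y ^ 2) = 0) ∧
      ∑ χ, (m χ : ℂ) * ((χ : G → ℂ) (y ^ 2) ^ 2 / (χ : G → ℂ) 1) = 0 := by
  classical
  obtain ⟨hy1, hy2, -⟩ := sq_of_four hy
  have hval : ∀ g : G, ∑ χ, (m χ : ℂ) * (χ : G → ℂ) g =
      Cfsg.indFun (Subgroup.centralizer ({y} : Set G)) θ g := fun g => by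
    rw [hm]; simp [Finset.sum_apply]
  refine ⟨?_, ?_, ?_⟩
  · rw [hval]; exact indFun_eq_zero hθ (by rw [orderOf_one]; omega)
  · rw [hval]
    refine indFun_eq_zero hθ ?_
    rw [orderOf_eq_prime hy1 hy2]
    omega
  · set T := CharactersDeep.ClassPairs.classSet (y ^ 2) with hT
    have hsum : ∑ p ∈ T ×ˢ T, ∑ χ, (m χ : ℂ) * (χ : G → ℂ) (p.1 * p.2) = 0 := by
      refine Finset.sum_eq_zero fun p hp => ?_
      rw [hval]
      obtain ⟨hp1, hp2⟩ := Finset.mem_product.1 hp
      have hinv : ∀ s ∈ T, s ^ 2 = 1 := by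
        intro s hs
        obtain ⟨a, rfl⟩ := isConj_iff.1 (CharactersDeep.ClassPairs.mem_classSet.1 hs)
        rw [conj_pow, hy1, mul_one, mul_inv_cancel]
      have h1 := hinv _ hp1
      have h2 := hinv _ hp2
      simp only [Cfsg.indFun]
      refine mul_eq_zero_of_right _ (Finset.sum_eq_zero fun x _ => ?_)
      by_cases hx : x⁻¹ * (p.1 * p.2) * x ∈ Subgroup.centralizer ({y} : Set G)
      · rw [extendByZero_of_mem _ _ hx]
        refine hθ.2 _ fun h4 => ?_
        refine not_inverted hU hy (Subgroup.mem_centralizer_singleton_iff.1 hx) h4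
          (s := x⁻¹ * p.1 * x) ?_ ?_
        · have := conj_pow (a := x⁻¹) (b := p.1) (i := 2)
          rw [inv_inv] at this
          rw [this, h1]; group
        · rw [sq] at h1 h2
          have e1 := inv_eq_of_mul_eq_one_left h1
          have e2 := inv_eq_of_mul_eq_one_left h2
          calc x⁻¹ * p.1 * x * (x⁻¹ * (p.1 * p.2) * x) * (x⁻¹ * p.1 * x)⁻¹
              = x⁻¹ * (p.1 * p.1) * p.2 * p.1⁻¹ * x := by group
            _ = (x⁻¹ * (p.1 * p.2) * x)⁻¹ := by
              rw [h1]; simp only [mul_inv_rev, inv_inv, e1, e2]; group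
      · exact extendByZero_of_not_mem _ _ hx
    rw [Finset.sum_comm] at hsum
    simp only [← Finset.mul_sum, hT, CharactersDeep.ClassPairs.sum_pairs_char (Subtype.prop _)] at hsum
    have hcard : ((CharactersDeep.ClassPairs.classSet (y ^ 2)).card : ℂ) ≠ 0 :=
      Nat.cast_ne_zero.2 (Finset.card_ne_zero.2
        ⟨y ^ 2, CharactersDeep.ClassPairs.mem_classSet.2 (IsConj.refl _)⟩)
    have hz : ((CharactersDeep.ClassPairs.classSet (y ^ 2)).card : ℂ) ^ 2 *
        ∑ χ, (m χ : ℂ) * ((χ : G → ℂ) (y ^ 2) ^ 2 / (χ : G → ℂ) 1) = 0 := ?_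
    · exact (mul_eq_zero.1 hz).resolve_left (pow_ne_zero 2 hcard)
    rw [Finset.mul_sum]
    refine Eq.trans (Finset.sum_congr rfl fun χ _ => ?_) hsum
    ring

end CfsgLib.BrauerSuzuki
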