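import Cfsg.Agent.BrauerSuzuki.Orderfour
import Mathlib.GroupTheory.Sylow

/-!
# Fusion of the elements of order 4 in a Sylow subgroup of order 8

Either all of them are conjugate, or the transfer gives a nonprincipal linear character with the
involution in its kernel.
-/

set_option autoImplicit false
set_option linter.style.haveILetI false
set_option linter.unusedSectionVars false

namespace CfsgLib.BrauerSuzuki

open CfsgLib.Characters CfsgLib.PrincipalBlock

universe u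

variable {G : Type u} [Group G] [Fintype G]

theorem inv_eq_cube {v : G} (hv : orderOf v = 4) : v⁻¹ = v ^ 3 :=
  inv_eq_of_mul_eq_one_right (by rw [← pow_succ', show 3 + 1 = 4 from rfl, ← hv, pow_orderOf_eq_one])

/-- Powers of an element of order 4. -/
theorem mem_zpowers_four {v x : G} (hv : orderOf v = 4) (hx : x ∈ Subgroup.zpowers v) :
    x = 1 ∨ x = v ∨ x = v ^ 2 ∨ x = v⁻¹ := by
  obtain ⟨k, rfl⟩ := Submonoid.mem_powers_iff _ _ |>.1
    ((isOfFinOrder_of_finite v).mem_powers_iff_mem_zpowers.2 hx)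
  rw [← pow_mod_orderOf, hv]
  have : k % 4 < 4 := Nat.mod_lt _ (by norm_num)
  interval_cases h : k % 4
  · exact Or.inl (pow_zero v)
  · exact Or.inr (Or.inl (pow_one v))
  · exact Or.inr (Or.inr (Or.inl rfl))
  · exact Or.inr (Or.inr (Or.inr (inv_eq_cube hv).symm))

theorem ne_one_of_four {v : G} (hv : orderOf v = 4) : v ≠ 1 ∧ v⁻¹ ≠ 1 ∧ v⁻¹ ≠ v := by
  have h : v ≠ 1 := fun h => by simp [h] at hv
  exact ⟨h, fun h' => h (inv_eq_one.1 h'), (sq_of_four hv).2.2⟩

/-- A group of order 8 has at most three cyclic subgroups of order 4. -/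
theorem four_pairs {S : Subgroup G} (hS : Nat.card S = 8) {p q r w : G} (hp : p ∈ S) (hq : q ∈ S)
    (hr : r ∈ S) (hw : w ∈ S) (op : orderOf p = 4) (oq : orderOf q = 4) (or' : orderOf r = 4)
    (ow : orderOf w = 4) (h1 : q ≠ p ∧ q ≠ p⁻¹) (h2 : r ≠ p ∧ r ≠ p⁻¹) (h3 : r ≠ q ∧ r ≠ q⁻¹)
    (h4 : w ≠ p ∧ w ≠ p⁻¹) (h5 : w ≠ q ∧ w ≠ q⁻¹) (h6 : w ≠ r ∧ w ≠ r⁻¹) : False := by
  classical
  haveI : Fintype S := Fintype.ofFinite _
  obtain ⟨p1, p2, p3⟩ := ne_one_of_four op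
  obtain ⟨q1, q2, q3⟩ := ne_one_of_four oq
  obtain ⟨r1, r2, r3⟩ := ne_one_of_four or'
  obtain ⟨w1, w2, w3⟩ := ne_one_of_four ow
  set L : List G := [1, p, p⁻¹, q, q⁻¹, r, r⁻¹, w, w⁻¹] with hL
  have hsym : ∀ {a c : G}, a ≠ c ∧ a ≠ c⁻¹ →
      c ≠ a ∧ c ≠ a⁻¹ ∧ c⁻¹ ≠ a ∧ c⁻¹ ≠ a⁻¹ := fun {a c} h =>
    ⟨Ne.symm h.1, fun e => h.2 (by rw [e, inv_inv]), Ne.symm h.2, fun e => h.1 (inv_injective e).symm⟩
  obtain ⟨a1, a2, a3, a4⟩ := hsym h1
  obtain ⟨b1, b2, b3, b4⟩ := hsym h2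
  obtain ⟨c1, c2, c3, c4⟩ := hsym h3
  obtain ⟨d1, d2, d3, d4⟩ := hsym h4
  obtain ⟨e1, e2, e3, e4⟩ := hsym h5
  obtain ⟨f1, f2, f3, f4⟩ := hsym h6
  have hnd : L.Nodup := by
    simp only [hL, List.nodup_cons, List.mem_cons, List.not_mem_nil, not_or, or_false,
      List.nodup_nil, and_true]
    exact ⟨⟨p1.symm, p2.symm, q1.symm, q2.symm, r1.symm, r2.symm, w1.symm, w2.symm⟩,
      ⟨p3.symm, a1, a2, b1, b2, d1, d2⟩, ⟨a3, a4, b3, b4, d3, d4⟩, ⟨q3.symm, c1, c2, e1, e2⟩,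
      ⟨c3, c4, e3, e4⟩, ⟨r3.symm, f1, f2⟩, ⟨f3, f4⟩, w3.symm, by simp⟩
  have hle : L.toFinset ⊆ Finset.univ.image ((↑) : S → G) := fun x hx => by
    rw [List.mem_toFinset] at hx
    refine Finset.mem_image.2 ⟨⟨x, ?_⟩, Finset.mem_univ _, rfl⟩
    simp only [hL, List.mem_cons, List.not_mem_nil, or_false] at hx
    rcases hx with h | h | h | h | h | h | h | h | h <;> rw [h] <;>
      first
        | exact one_mem _
        | assumption
        | exact inv_mem hp
        | exact inv_mem hq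
        | exact inv_mem hr
        | exact inv_mem hw
  have := (Finset.card_le_card hle).trans Finset.card_image_le
  rw [List.toFinset_card_of_nodup hnd, Finset.card_univ, ← Nat.card_eq_fintype_card, hS] at this
  simp [hL] at this

/-- An element of order 4 whose conjugates in `S` generate the same subgroup gives a nontrivial
linear character. -/
theorem exists_kernel_of_isolated (S : Sylow 2 G) (h8 : Nat.card S = 8)
    (hinvol : ∀ x ∈ (S : Subgroup G), x ^ 2 = 1 → x ≠ 1 → ∀ z ∈ (S : Subgroup G),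
      z ^ 2 = 1 → z ≠ 1 → x = z)
    {w v : G} (hw : w ∈ (S : Subgroup G)) (hv : v ∈ (S : Subgroup G)) (ow : orderOf w = 4)
    (ov : orderOf v = 4) (hwv : w ≠ v ∧ w ≠ v⁻¹)
    (hiso : ∀ g : G, g⁻¹ * w * g ∈ (S : Subgroup G) → g⁻¹ * w * g = w ∨ g⁻¹ * w * g = w⁻¹) :
    ∃ χ : Cfsg.IrrCharacter G, χ ≠ trivChar G ∧ (χ : G → ℂ) (w ^ 2) = (χ : G → ℂ) 1 := by
  classical
  obtain ⟨w1, w2, -⟩ := sq_of_four ow
  obtain ⟨v1, v2, -⟩ := sq_of_four ov
  have hsq : w ^ 2 = v ^ 2 :=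
    hinvol _ (pow_mem hw 2) w1 w2 _ (pow_mem hv 2) v1 v2
  set W : Subgroup (S : Subgroup G) := Subgroup.zpowers ⟨v, hv⟩ with hW
  have hW2 : W.index = 2 := by
    have := W.card_mul_index
    have h4 : Nat.card W = 4 := by rw [hW, Nat.card_zpowers, Subgroup.orderOf_mk, ov]
    rw [h4, h8] at this
    omega
  set φ : (S : Subgroup G) →* ℤˣ :=
    { toFun := fun x => if x ∈ W then 1 else -1
      map_one' := if_pos (one_mem W)
      map_mul' := fun a c => by
        have h := Subgroup.mul_mem_iff_of_index_two hW2 (a := a) (b := c)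
        by_cases ha : a ∈ W <;> by_cases hc : c ∈ W <;> simp [ha, hc, h] } with hφ
  have hφW : ∀ x : (S : Subgroup G), x ∈ W → φ x = 1 := fun x hx => if_pos hx
  have hφw : ∀ x : (S : Subgroup G), (x : G) = w ∨ (x : G) = w⁻¹ → φ x = -1 := by
    intro x hx
    refine if_neg fun h => ?_
    have h' : (x : G) ∈ Subgroup.zpowers v := by
      obtain ⟨k, hk⟩ := Subgroup.mem_zpowers_iff.1 h
      exact ⟨k, by rw [← hk]; rfl⟩
    have hwmem : w ∈ Subgroup.zpowers v := by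
      rcases hx with e | e <;> rw [e] at h'
      · exact h'
      · exact (Subgroup.inv_mem_iff _).1 h'
    rcases mem_zpowers_four ov hwmem with e | e | e | e
    · exact (ne_one_of_four ow).1 e
    · exact hwv.1 e
    · exact w2 (by rw [e]; exact v1)
    · exact hwv.2 e
  haveI : (S : Subgroup G).FiniteIndex := inferInstance
  set V : G →* ℤˣ := MonoidHom.transfer φ with hV
  letI : Fintype (Quotient (MulAction.orbitRel (Subgroup.zpowers w) (G ⧸ (S : Subgroup G)))) :=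
    Fintype.ofFinite _
  have hVw : V w = -1 := by
    rw [hV, MonoidHom.transfer_eq_prod_quotient_orbitRel_zpowers_quot]
    have hterm : ∀ q : Quotient (MulAction.orbitRel (Subgroup.zpowers w) (G ⧸ (S : Subgroup G))),
        φ ⟨q.out.out⁻¹ * w ^ Function.minimalPeriod (w • ·) q.out * q.out.out,
            QuotientGroup.out_conj_pow_minimalPeriod_mem (S : Subgroup G) w q.out⟩ =
          (-1) ^ Function.minimalPeriod (w • ·) q.out := by
      intro q
      have hdvd : Function.minimalPeriod (w • ·) q.out ∣ 4 := by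
        rw [← ow]
        refine Function.IsPeriodicPt.minimalPeriod_dvd ?_
        simp [Function.IsPeriodicPt, Function.IsFixedPt, smul_iterate, pow_orderOf_eq_one]
      suffices hgen : ∀ (l : ℕ) (x : G), l ∣ 4 → ∀ hmem : x⁻¹ * w ^ l * x ∈ (S : Subgroup G),
          φ ⟨x⁻¹ * w ^ l * x, hmem⟩ = (-1) ^ l from hgen _ _ hdvd _
      clear hdvd
      intro l x hdvd hmem
      have hl4 : l ≤ 4 := Nat.le_of_dvd (by norm_num) hdvd
      interval_cases l
      · omega
      · simp only [pow_one] at hmem ⊢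
        exact hφw _ (hiso _ hmem)
      · rw [show (-1 : ℤˣ) ^ 2 = 1 by norm_num]
        refine hφW _ ?_
        have hx : x⁻¹ * w ^ 2 * x = v ^ 2 := by
          refine hinvol _ hmem ?_ ?_ _ (pow_mem hv 2) v1 v2
          · calc (x⁻¹ * w ^ 2 * x) ^ 2 = x⁻¹ * (w ^ 2) ^ 2 * x := by
                  rw [sq, sq (w ^ 2)]; group
              _ = 1 := by rw [w1]; group
          · intro e
            apply w2
            calc w ^ 2 = x * (x⁻¹ * w ^ 2 * x) * x⁻¹ := by group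
              _ = 1 := by rw [e]; group
        exact ⟨2, Subtype.ext (by simpa using hx.symm)⟩
      · omega
      · rw [show (-1 : ℤˣ) ^ 4 = 1 by decide]
        refine hφW _ ?_
        have hw4 : w ^ 4 = 1 := by rw [← ow]; exact pow_orderOf_eq_one w
        have : x⁻¹ * w ^ 4 * x = 1 := by rw [hw4]; group
        exact ⟨0, Subtype.ext (by simpa using this.symm)⟩
    rw [Finset.prod_congr rfl fun q _ => hterm q, Finset.prod_pow_eq_pow_sum]
    have hcard : ∑ q : Quotient (MulAction.orbitRel (Subgroup.zpowers w) (G ⧸ (S : Subgroup G))),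
        Function.minimalPeriod (w • ·) q.out = (S : Subgroup G).index := by
      rw [Subgroup.index_eq_card, Nat.card_congr (Subgroup.quotientEquivSigmaZMod (S : Subgroup G) w),
        Nat.card_sigma]
      exact Finset.sum_congr rfl fun q _ => (Nat.card_zmod _).symm
    rw [hcard]
    have hodd : Odd (S : Subgroup G).index := by
      rw [← Nat.not_even_iff_odd, even_iff_two_dvd]
      exact S.not_dvd_index
    exact hodd.neg_one_pow
  set L : G →* ℂˣ := (Units.map (Int.castRingHom ℂ).toMonoidHom).comp V with hL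
  refine ⟨⟨fun g => (L g : ℂ), isIrr_linChar L⟩, fun e => ?_, ?_⟩
  · have := congrArg (fun χ : Cfsg.IrrCharacter G => (χ : G → ℂ) w) e
    simp [hL, hVw] at this
    norm_num at this
  · simp [hL, hVw]

/-- Either a kernel, or all elements of order 4 of `S` are conjugate. -/
theorem exists_kernel_or_fused (S : Sylow 2 G) (h8 : Nat.card S = 8)
    (hinvol : ∀ x ∈ (S : Subgroup G), x ^ 2 = 1 → x ≠ 1 → ∀ z ∈ (S : Subgroup G),
      z ^ 2 = 1 → z ≠ 1 → x = z)
    {y b : G} (hy : orderOf y = 4) (hyS : y ∈ (S : Subgroup G)) (hb : b * y * b⁻¹ = y⁻¹) :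
    (∃ χ : Cfsg.IrrCharacter G, χ ≠ trivChar G ∧ (χ : G → ℂ) (y ^ 2) = (χ : G → ℂ) 1) ∨
      ∀ z ∈ (S : Subgroup G), orderOf z = 4 → IsConj y z := by
  by_cases hall : ∀ z ∈ (S : Subgroup G), orderOf z = 4 → IsConj y z
  · exact Or.inr hall
  push Not at hall
  obtain ⟨z, hzS, oz, hzy⟩ := hall
  have hzne : z ≠ y ∧ z ≠ y⁻¹ :=
    ⟨fun e => hzy (e ▸ IsConj.refl y), fun e => hzy (e ▸ isConj_iff.2 ⟨b, hb⟩)⟩
  obtain ⟨y1, y2, -⟩ := sq_of_four hy
  obtain ⟨z1, z2, -⟩ := sq_of_four oz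
  have hsq : z ^ 2 = y ^ 2 := hinvol _ (pow_mem hzS 2) z1 z2 _ (pow_mem hyS 2) y1 y2
  refine Or.inl ?_
  have ordc : ∀ g x : G, orderOf (g⁻¹ * x * g) = orderOf x := fun g x => by
    simpa using (MulAut.conj g⁻¹).orderOf_eq x
  by_cases hy' : ∀ g : G, g⁻¹ * y * g ∈ (S : Subgroup G) → g⁻¹ * y * g = y ∨ g⁻¹ * y * g = y⁻¹
  · exact exists_kernel_of_isolated S h8 hinvol hyS hzS hy oz
      ⟨hzne.1.symm, fun e => hzne.2 (by rw [e, inv_inv])⟩ hy'
  push Not at hy'
  obtain ⟨g, hgS, hg1, hg2⟩ := hy'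
  rw [← hsq]
  refine exists_kernel_of_isolated S h8 hinvol hzS hyS oz hy hzne fun g' hg' => ?_
  by_contra hcon
  push Not at hcon
  have hconjy : IsConj y (g⁻¹ * y * g) := isConj_iff.2 ⟨g⁻¹, by rw [inv_inv]⟩
  have hno : ∀ x : G, IsConj y x → g'⁻¹ * z * g' ≠ x := fun x hx e => by
    refine hzy (hx.trans ?_)
    rw [← e]
    exact isConj_iff.2 ⟨g', by group⟩
  have hinvconj : IsConj y (g⁻¹ * y * g)⁻¹ := by
    refine (isConj_iff.2 ⟨b, hb⟩ : IsConj y y⁻¹).trans (isConj_iff.2 ⟨g⁻¹, by group⟩)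
  have hzg : ∀ x : G, IsConj y x → z ≠ x := fun x hx e => hzy (e ▸ hx)
  exact four_pairs h8 hyS hgS hzS hg' hy (by rw [ordc]; exact hy) oz (by rw [ordc]; exact oz)
    ⟨hg1, hg2⟩ hzne ⟨hzg _ hconjy, hzg _ hinvconj⟩
    ⟨hno _ (IsConj.refl y), hno _ (isConj_iff.2 ⟨b, hb⟩)⟩ ⟨hno _ hconjy, hno _ hinvconj⟩ hcon

end CfsgLib.BrauerSuzuki
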