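import Cfsg.Agent.BrauerSuzuki.Constituents
import Cfsg.Agent.Indicator.Basic

/-!
# The quaternion group of order 8: values of the exceptional characters at `y`

When `π` has values `±1`, is invariant under `b` and `C(y)/⟨y⟩` has odd order, either `y²` lies in
the kernel of a nonprincipal character, or the three exceptional characters are real and take at
`y` the value of their multiplicity.
-/

set_option autoImplicit false
set_option linter.style.haveILetI false
set_option linter.unusedSectionVars false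

namespace CfsgLib.BrauerSuzuki

open scoped ComplexConjugate
open CfsgLib.Characters CfsgLib.PrincipalBlock

universe u

/-- A real irreducible character trivial on a normal subgroup of odd index is principal. -/
theorem eq_one_of_real_of_odd_index {H : Type u} [Group H] [Fintype H] (Z : Subgroup H) [Z.Normal]
    (hodd : Odd Z.index) {χ : H → ℂ} (hχ : Cfsg.IsIrrCharacter H χ)
    (hZ : ∀ z ∈ Z, χ z = χ 1) (hreal : ∀ h, conj (χ h) = χ h) : χ = fun _ => 1 := by
  classical
  haveI : Fintype (H ⧸ Z) := Fintype.ofFinite _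
  obtain ⟨ψ, hψ, hval⟩ := exists_irr_quotient Z hχ hZ
  have hr : ∀ q : H ⧸ Z, conj (ψ q) = ψ q := fun q => by
    obtain ⟨h, rfl⟩ := QuotientGroup.mk_surjective q
    rw [← hval]; exact hreal h
  have hcop : (Nat.card (H ⧸ Z)).Coprime 2 := by
    rw [← Subgroup.index_eq_card]; exact hodd.coprime_two_right
  have hnu : FSIndicator.nu ψ = Cfsg.classInner ψ (fun _ : H ⧸ Z => (1 : ℂ)) := by
    simp only [FSIndicator.nu, Cfsg.classInner, map_one, mul_one]
    congr 1
    exact Fintype.sum_bijective (powCoprime hcop) (powCoprime hcop).bijective _ _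
      fun q => by rw [powCoprime_apply, sq]
  have h1 : ψ = fun _ => 1 := by
    by_contra hne
    rw [classInner_isIrr_ne hψ isIrr_one hne] at hnu
    rcases FSIndicator.nu_irr ⟨ψ, hψ⟩ with ⟨-, h | h⟩ | ⟨⟨q, hq⟩, -⟩
    · simp only [hnu] at h; norm_num at h
    · simp only [hnu] at h; norm_num at h
    · exact hq (hr q)
  funext h
  rw [hval, h1]

variable {G : Type u} [Group G] [Fintype G]

/-- Complex conjugation of irreducible characters. -/
noncomputable def conjIrr (χ : Cfsg.IrrCharacter G) : Cfsg.IrrCharacter G :=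
  ⟨fun g => conj ((χ : G → ℂ) g),
    isIrr_of_classInner_self (isCharacter_conj (isCharacter_of_isIrr χ.2))
      (by rw [classInner_conj_conj, classInner_isIrr_self χ.2, map_one])⟩

theorem conjIrr_apply (χ : Cfsg.IrrCharacter G) (g : G) :
    (conjIrr χ : G → ℂ) g = conj ((χ : G → ℂ) g) := rfl

theorem conjIrr_conjIrr (χ : Cfsg.IrrCharacter G) : conjIrr (conjIrr χ) = χ :=
  Subtype.ext (funext fun g => by rw [conjIrr_apply, conjIrr_apply, Complex.conj_conj])

theorem conjIrr_bijective : Function.Bijective (conjIrr (G := G)) :=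
  Function.Involutive.bijective conjIrr_conjIrr

theorem indFun_conj (H : Subgroup G) (θ : H → ℂ) (g : G) :
    conj (Cfsg.indFun H θ g) = Cfsg.indFun H (fun h => conj (θ h)) g := by
  simp only [Cfsg.indFun, map_mul, map_inv₀, map_natCast, map_sum]
  refine congrArg _ (Finset.sum_congr rfl fun x _ => ?_)
  by_cases hx : x⁻¹ * g * x ∈ H
  · rw [extendByZero_of_mem _ _ hx, extendByZero_of_mem _ _ hx]
  · rw [extendByZero_of_not_mem _ _ hx, extendByZero_of_not_mem _ _ hx, map_zero]

/-- The coefficient of `χ` in a function with conjugated values. -/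
theorem classInner_conj_fun (θ : G → ℂ) (χ : Cfsg.IrrCharacter G) :
    Cfsg.classInner (fun g => conj (θ g)) (χ : G → ℂ) =
      conj (Cfsg.classInner θ (conjIrr χ : G → ℂ)) := by
  conv_lhs => rw [← conjIrr_conjIrr χ]
  exact classInner_conj_conj θ (conjIrr χ : G → ℂ)

section Pairs

variable {m : Cfsg.IrrCharacter G → ℤ} {T : Finset (Cfsg.IrrCharacter G)} {u : G}

/-- Two exceptional characters with the same signed degree and value force a kernel. -/
theorem no_equal_pair (hpm : ∀ χ ∈ T, m χ = 1 ∨ m χ = -1) (h0 : trivChar G ∉ T) (hcard : T.card = 3)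
    (hrel : (1 + ∑ χ ∈ T, (m χ : ℂ) * (χ : G → ℂ) 1 = 0) ∧
      (1 + ∑ χ ∈ T, (m χ : ℂ) * (χ : G → ℂ) u = 0) ∧
      1 + ∑ χ ∈ T, ((m χ : ℂ) * (χ : G → ℂ) u) ^ 2 / ((m χ : ℂ) * (χ : G → ℂ) 1) = 0)
    (hno : ∀ χ : Cfsg.IrrCharacter G, χ ≠ trivChar G → (χ : G → ℂ) u ≠ (χ : G → ℂ) 1)
    {χ ψ : Cfsg.IrrCharacter G} (hχ : χ ∈ T) (hψ : ψ ∈ T) (hne : χ ≠ ψ)
    (ha : (m χ : ℂ) * (χ : G → ℂ) 1 = (m ψ : ℂ) * (ψ : G → ℂ) 1)
    (hs : (m χ : ℂ) * (χ : G → ℂ) u = (m ψ : ℂ) * (ψ : G → ℂ) u) : False := by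
  classical
  obtain ⟨ω, hω⟩ := Finset.card_eq_one.1 (show ((T.erase χ).erase ψ).card = 1 by
    rw [Finset.card_erase_of_mem (Finset.mem_erase.2 ⟨hne.symm, hψ⟩),
      Finset.card_erase_of_mem hχ, hcard])
  have hωT : ω ∈ T := Finset.mem_of_mem_erase (Finset.mem_of_mem_erase (hω ▸ Finset.mem_singleton_self ω))
  have hsplit : ∀ f : Cfsg.IrrCharacter G → ℂ, ∑ x ∈ T, f x = f χ + f ψ + f ω := fun f => by
    rw [← Finset.add_sum_erase T f hχ, ← Finset.add_sum_erase (T.erase χ) f
      (Finset.mem_erase.2 ⟨hne.symm, hψ⟩), hω, Finset.sum_singleton, add_assoc]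
  obtain ⟨r1, r2, r3⟩ := hrel
  rw [hsplit] at r1 r2 r3
  rw [← ha] at r1 r3
  rw [← hs] at r2 r3
  have hz : ∀ {x : Cfsg.IrrCharacter G}, x ∈ T → (m x : ℂ) ≠ 0 := fun hx =>
    Int.cast_ne_zero.2 (by rcases hpm _ hx with h | h <;> omega)
  refine hno χ (fun e => h0 (e ▸ hχ)) (mul_left_cancel₀ (hz hχ) ?_)
  exact three_num_pair (a := (m χ : ℂ) * (χ : G → ℂ) 1) (c := (m ω : ℂ) * (ω : G → ℂ) 1)
    (s := (m χ : ℂ) * (χ : G → ℂ) u) (r := (m ω : ℂ) * (ω : G → ℂ) u)
    (mul_ne_zero (hz hχ) (irr_one_ne_zero χ.2)) (mul_ne_zero (hz hωT) (irr_one_ne_zero ω.2))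
    (by linear_combination r1) (by linear_combination r2) (by linear_combination r3)

/-- A small integral vector on `T` orthogonal to `m` vanishes, unless two members of `T` have the
same signed degree and value. -/
theorem pair_zero (hpm : ∀ χ ∈ T, m χ = 1 ∨ m χ = -1)
    (hpair : ∀ χ ∈ T, ∀ ψ ∈ T, χ ≠ ψ → (m χ : ℂ) * (χ : G → ℂ) 1 = (m ψ : ℂ) * (ψ : G → ℂ) 1 →
      (m χ : ℂ) * (χ : G → ℂ) u = (m ψ : ℂ) * (ψ : G → ℂ) u → False)
    (d : Cfsg.IrrCharacter G → ℤ) (horth : ∑ χ ∈ T, m χ * d χ = 0)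
    (hle : ∑ χ ∈ T, d χ ^ 2 ≤ 2)
    (htwo : ∑ χ ∈ T, d χ ^ 2 = 2 → ∑ χ ∈ T, (d χ : ℂ) * (χ : G → ℂ) 1 = 0 ∧
      ∑ χ ∈ T, (d χ : ℂ) * (χ : G → ℂ) u = 0) : ∀ χ ∈ T, d χ = 0 := by
  classical
  intro χ hχ
  by_contra hd
  have hsmall : ∀ x ∈ T, d x = 0 ∨ d x = 1 ∨ d x = -1 := fun x hx => by
    have h2 : d x ^ 2 ≤ 2 :=
      le_trans (Finset.single_le_sum (f := fun x => d x ^ 2) (fun _ _ => sq_nonneg _) hx) hle
    have : -2 < d x ∧ d x < 2 := ⟨by nlinarith, by nlinarith⟩
    omega
  have hsq : ∀ x ∈ T, d x ≠ 0 → d x ^ 2 = 1 := fun x hx h => by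
    rcases hsmall x hx with h' | h' | h'
    · exact absurd h' h
    · rw [h']; norm_num
    · rw [h']; norm_num
  obtain ⟨ψ, hψ, hdψ⟩ : ∃ ψ ∈ T.erase χ, d ψ ≠ 0 := by
    by_contra hcon
    push Not at hcon
    rw [← Finset.add_sum_erase T _ hχ, Finset.sum_eq_zero (s := T.erase χ)
      (fun x hx => by rw [hcon x hx, mul_zero]), add_zero] at horth
    rcases mul_eq_zero.1 horth with h | h
    · rcases hpm χ hχ with h' | h' <;> omega
    · exact hd h
  obtain ⟨hne, hψT⟩ := Finset.mem_erase.1 hψ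
  have hsum2 : ∀ f : Cfsg.IrrCharacter G → ℤ, ∑ x ∈ T, f x =
      f χ + (f ψ + ∑ x ∈ (T.erase χ).erase ψ, f x) := fun f => by
    rw [← Finset.add_sum_erase T f hχ, ← Finset.add_sum_erase (T.erase χ) f hψ]
  have h0 : ∑ x ∈ (T.erase χ).erase ψ, d x ^ 2 = 0 ∧ ∑ x ∈ T, d x ^ 2 = 2 := by
    have h1 := hsum2 (fun x => d x ^ 2)
    rw [hsq χ hχ hd, hsq ψ hψT hdψ] at h1
    have h2 : 0 ≤ ∑ x ∈ (T.erase χ).erase ψ, d x ^ 2 := Finset.sum_nonneg fun _ _ => sq_nonneg _
    omega
  have hrest : ∀ x ∈ (T.erase χ).erase ψ, d x = 0 := fun x hx =>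
    (pow_eq_zero_iff two_ne_zero).1 ((Finset.sum_eq_zero_iff_of_nonneg (fun _ _ => sq_nonneg _)).1 h0.1 x hx)
  rw [hsum2, Finset.sum_eq_zero (fun x hx => by rw [hrest x hx, mul_zero]), add_zero] at horth
  have hC : ∀ g : G, ∑ x ∈ T, (d x : ℂ) * (x : G → ℂ) g =
      (d χ : ℂ) * (χ : G → ℂ) g + (d ψ : ℂ) * (ψ : G → ℂ) g := fun g => by
    rw [← Finset.add_sum_erase T _ hχ, ← Finset.add_sum_erase (T.erase χ) _ hψ,
      Finset.sum_eq_zero (fun x hx => by rw [hrest x hx]; simp), add_zero]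
  have key : ∀ g : G, (d χ : ℂ) * (χ : G → ℂ) g + (d ψ : ℂ) * (ψ : G → ℂ) g = 0 →
      (m χ : ℂ) * (χ : G → ℂ) g = (m ψ : ℂ) * (ψ : G → ℂ) g := by
    intro g hg
    rcases hpm χ hχ with a | a <;> rcases hpm ψ hψT with c | c <;>
      rcases (hsmall χ hχ).resolve_left hd with e | e <;>
      rcases (hsmall ψ hψT).resolve_left hdψ with f | f <;>
      rw [a, c, e, f] at horth <;> (try omega) <;>
      rw [e, f] at hg <;> rw [a, c] <;> push_cast at hg ⊢ <;>
      first | linear_combination hg | linear_combination -hg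
  obtain ⟨t1, t2⟩ := htwo h0.2
  rw [hC] at t1 t2
  exact hpair χ hχ ψ hψT hne.symm (key 1 t1) (key u t2)

end Pairs

section Values

variable {y b : G} {π : Subgroup.centralizer ({y} : Set G) →* ℂˣ}

/-- The value at `y` of an irreducible character of `C(y)`. -/
theorem value_central (hy : orderOf y = 4) [Fintype (Subgroup.centralizer ({y} : Set G))]
    (ψ : Cfsg.IrrCharacter (Subgroup.centralizer ({y} : Set G))) :
    ∃ ω : ℂ, ω ^ 4 = 1 ∧
      (ψ : Subgroup.centralizer ({y} : Set G) → ℂ) ⟨y, self_mem_cent y⟩ = ω * (ψ : Subgroup.centralizer ({y} : Set G) → ℂ) 1 := by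
  obtain ⟨n, ρ, hρ, hρc⟩ := ψ.2
  have hcen : (⟨y, self_mem_cent y⟩ : Subgroup.centralizer ({y} : Set G)) ∈
      Subgroup.center (Subgroup.centralizer ({y} : Set G)) :=
    Subgroup.mem_center_iff.2 fun c => Subtype.ext (Subgroup.mem_centralizer_singleton_iff.1 c.2)
  obtain ⟨ω, hω⟩ := central_scalar ρ hcen
  refine ⟨ω, ?_, ?_⟩
  · have h4 : (⟨y, self_mem_cent y⟩ : Subgroup.centralizer ({y} : Set G)) ^ 4 = 1 :=
      Subtype.ext (by simp only [SubmonoidClass.coe_pow, Subgroup.coe_one, ← hy, pow_orderOf_eq_one])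
    have h := congrArg ρ h4
    rw [map_pow, map_one, hω, smul_pow, show (LinearMap.id : (Fin n → ℂ) →ₗ[ℂ] _) = 1 from rfl,
      one_pow] at h
    have ht := congrArg (LinearMap.trace ℂ (Fin n → ℂ)) h
    rw [map_smul, LinearMap.trace_one, smul_eq_mul] at ht
    have hn : (Module.finrank ℂ (Fin n → ℂ) : ℂ) ≠ 0 := by
      rw [← Representation.char_one ρ, hρc]; exact irr_one_ne_zero ψ.2
    exact (mul_eq_right₀ hn).1 ht
  · rw [← hρc, Representation.char_one, Representation.character, hω, map_smul, LinearMap.trace_id,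
      smul_eq_mul]

theorem eq_one_or_neg_one_of_real {ω : ℂ} (h4 : ω ^ 4 = 1) (hr : conj ω = ω) : ω = 1 ∨ ω = -1 := by
  obtain ⟨r, rfl⟩ := Complex.conj_eq_iff_real.1 hr
  have h : r ^ 4 = 1 := by exact_mod_cast h4
  have h2 : (r ^ 2 - 1) * (r ^ 2 + 1) = 0 := by linear_combination h
  rcases mul_eq_zero.1 h2 with h3 | h3
  · rcases sq_eq_one_iff.1 (show r ^ 2 = 1 by linarith) with h5 | h5 <;> rw [h5] <;>
      [left; right] <;> push_cast <;> rfl
  · nlinarith [sq_nonneg r]

/-- Either a kernel, or the exceptional characters are real with value `m` at `y`. -/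
theorem real_and_value (hU : NoFour G) (hy : orderOf y = 4) (hb : b * y * b⁻¹ = y⁻¹)
    (hπ : IsSign y π) (hinv : ∀ c, π (conjHom hb c) = π c) (hsq : ∀ c, π c ^ 2 = 1)
    (hidx : Odd (Subgroup.zpowers (⟨y, self_mem_cent y⟩ : Subgroup.centralizer ({y} : Set G))).index)
    {m : Cfsg.IrrCharacter G → ℤ}
    (hm : Cfsg.indFun (Subgroup.centralizer ({y} : Set G)) (thetaOf π) = ∑ χ, (m χ : ℂ) • (χ : G → ℂ))
    (hmi : ∀ χ : Cfsg.IrrCharacter G,
      Cfsg.classInner (Cfsg.indFun (Subgroup.centralizer ({y} : Set G)) (thetaOf π)) (χ : G → ℂ) = m χ)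
    {T : Finset (Cfsg.IrrCharacter G)} (h1 : m (trivChar G) = 1) (h0 : trivChar G ∉ T)
    (hpm : ∀ χ ∈ T, m χ = 1 ∨ m χ = -1) (hcard : T.card = 3)
    (hrest : ∀ χ, χ ≠ trivChar G → χ ∉ T → m χ = 0)
    (hno : ∀ χ : Cfsg.IrrCharacter G, χ ≠ trivChar G → (χ : G → ℂ) (y ^ 2) ≠ (χ : G → ℂ) 1) :
    ∀ χ ∈ T, conjIrr χ = χ ∧ (χ : G → ℂ) y = (m χ : ℂ) := by
  classical
  haveI : Fintype (Subgroup.centralizer ({y} : Set G)) := Fintype.ofFinite _
  obtain ⟨hy1, hy2, hy3⟩ := sq_of_four hy
  have hrel := support_relations hU hy hπ hm h1 h0 hpm hrest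
  have hpair : ∀ χ ∈ T, ∀ ψ ∈ T, χ ≠ ψ → (m χ : ℂ) * (χ : G → ℂ) 1 = (m ψ : ℂ) * (ψ : G → ℂ) 1 →
      (m χ : ℂ) * (χ : G → ℂ) (y ^ 2) = (m ψ : ℂ) * (ψ : G → ℂ) (y ^ 2) → False :=
    fun χ hχ ψ hψ hne ha hs => no_equal_pair hpm h0 hcard hrel hno hχ hψ hne ha hs
  have hπr : ∀ c, conj (π c : ℂ) = π c := fun c => by
    have h : ((π c : ℂˣ) : ℂ) ^ 2 = 1 := by rw [← Units.val_pow_eq_pow_val, hsq, Units.val_one]
    rcases sq_eq_one_iff.1 h with e | e <;> rw [e] <;> simp
  have hπy : (π ⟨y, self_mem_cent y⟩ : ℂ) = -1 := hπ.neg _ rfl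
  -- reality
  have hTconj : ∀ χ ∈ T, m (conjIrr χ) = m χ := by
    intro χ _
    have h : (fun g => conj (Cfsg.indFun (Subgroup.centralizer ({y} : Set G)) (thetaOf π) g)) = Cfsg.indFun (Subgroup.centralizer ({y} : Set G)) (thetaOf π) :=
      funext fun g => by
        rw [indFun_conj]
        congr 1
        funext c
        simp [thetaOf, hπr]
    have h2 := classInner_conj_fun (Cfsg.indFun (Subgroup.centralizer ({y} : Set G)) (thetaOf π)) χ
    rw [h, hmi, hmi, map_intCast] at h2
    exact_mod_cast h2.symm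
  have hu : ∀ χ : Cfsg.IrrCharacter G, conj ((χ : G → ℂ) (y ^ 2)) = (χ : G → ℂ) (y ^ 2) := fun χ => by
    rw [← character_inv (isCharacter_of_isIrr χ.2),
      inv_eq_of_mul_eq_one_right (show y ^ 2 * y ^ 2 = 1 by rw [← sq]; exact hy1)]
  have hone : ∀ χ : Cfsg.IrrCharacter G, conj ((χ : G → ℂ) 1) = (χ : G → ℂ) 1 := fun χ => by
    obtain ⟨n, hn⟩ := exists_degree (isCharacter_of_isIrr χ.2)
    rw [hn, map_natCast]
  have hrealT : ∀ χ ∈ T, conjIrr χ = χ := by
    intro χ hχ
    by_contra hne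
    have hmem : conjIrr χ ∈ T := by
      by_contra hcon
      have hnt : conjIrr χ ≠ trivChar G := fun h => by
        refine h0 ?_
        have h' : χ = trivChar G := by
          rw [← conjIrr_conjIrr χ, h]
          exact Subtype.ext (funext fun g => by simp [conjIrr_apply])
        exact h' ▸ hχ
      have := hrest _ hnt hcon
      rw [hTconj χ hχ] at this
      rcases hpm χ hχ with e | e <;> omega
    exact hpair χ hχ _ hmem (Ne.symm hne) (by rw [hTconj χ hχ, conjIrr_apply, hone])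
      (by rw [hTconj χ hχ, conjIrr_apply, hu])
  intro χ hχ
  refine ⟨hrealT χ hχ, ?_⟩
  -- the functions `(1 - π) ψ`
  set f : ((Subgroup.centralizer ({y} : Set G)) → ℂ) → (Subgroup.centralizer ({y} : Set G)) → ℂ := fun ψ c => thetaOf π c * ψ c with hf
  have hfsupp : ∀ ψ : (Subgroup.centralizer ({y} : Set G)) → ℂ, Cfsg.IsClassFunction (Subgroup.centralizer ({y} : Set G)) ψ → Supported y (f ψ) := fun ψ hψ =>
    ⟨fun c d => by simp only [hf]; rw [(supported_theta hπ).1, hψ],
      fun c hc => by simp only [hf]; rw [(supported_theta hπ).2 c hc, zero_mul]⟩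
  have hfgen : ∀ ψ : (Subgroup.centralizer ({y} : Set G)) → ℂ, Cfsg.IsIrrCharacter (Subgroup.centralizer ({y} : Set G)) ψ → Cfsg.IsGeneralizedCharacter (Subgroup.centralizer ({y} : Set G)) (f ψ) :=
    fun ψ hψ => isGen_mul isGen_theta (isGen_of_isIrr hψ)
  have hπirr : Cfsg.IsIrrCharacter (Subgroup.centralizer ({y} : Set G)) (fun c => (π c : ℂ)) := isIrr_linChar π
  have hmul : ∀ ψ : (Subgroup.centralizer ({y} : Set G)) → ℂ, Cfsg.IsIrrCharacter (Subgroup.centralizer ({y} : Set G)) ψ →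
      Cfsg.IsIrrCharacter (Subgroup.centralizer ({y} : Set G)) (fun c => (π c : ℂ) * ψ c) := fun ψ hψ =>
    isIrr_of_classInner_self (isCharacter_mul (isCharacter_of_isIrr hπirr) (isCharacter_of_isIrr hψ))
      (by
        rw [← classInner_isIrr_self hψ]
        simp only [Cfsg.classInner, map_mul]
        refine congrArg _ (Finset.sum_congr rfl fun c _ => ?_)
        have h : ((π c : ℂˣ) : ℂ) ^ 2 = 1 := by rw [← Units.val_pow_eq_pow_val, hsq, Units.val_one]
        rw [hπr, show (π c : ℂ) * ψ c * ((π c : ℂ) * conj (ψ c)) =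
          (π c : ℂ) ^ 2 * (ψ c * conj (ψ c)) by ring, h, one_mul])
  have hfd : ∀ ψ : (Subgroup.centralizer ({y} : Set G)) → ℂ, f ψ = ψ - fun c => (π c : ℂ) * ψ c := fun ψ => funext fun c => by
    simp [hf, thetaOf]; ring
  have hcoef : ∀ ψ : Cfsg.IrrCharacter (Subgroup.centralizer ({y} : Set G)),
      Cfsg.classInner (f (ψ : (Subgroup.centralizer ({y} : Set G)) → ℂ)) (fun c : (Subgroup.centralizer ({y} : Set G)) => (χ : G → ℂ) c) =
        if (ψ : (Subgroup.centralizer ({y} : Set G)) → ℂ) = (fun _ => 1) then (m χ : ℂ)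
        else if (ψ : (Subgroup.centralizer ({y} : Set G)) → ℂ) = (fun c => (π c : ℂ)) then -(m χ : ℂ) else 0 := by
    intro ψ
    by_cases e1 : (ψ : (Subgroup.centralizer ({y} : Set G)) → ℂ) = fun _ => 1
    · rw [if_pos e1, ← hmi χ, classInner_indFun _ _ (isClassFunction_of_isIrr χ.2)]
      congr 1
      funext c
      simp [hf, e1]
    rw [if_neg e1]
    by_cases e2 : (ψ : (Subgroup.centralizer ({y} : Set G)) → ℂ) = fun c => (π c : ℂ)
    · rw [if_pos e2, ← hmi χ, classInner_indFun _ _ (isClassFunction_of_isIrr χ.2),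
        show f (ψ : (Subgroup.centralizer ({y} : Set G)) → ℂ) = (-1 : ℂ) • thetaOf π from funext fun c => by
          have h : ((π c : ℂˣ) : ℂ) ^ 2 = 1 := by
            rw [← Units.val_pow_eq_pow_val, hsq, Units.val_one]
          simp only [hf, e2, thetaOf, Pi.smul_apply, smul_eq_mul]
          linear_combination -h,
        classInner_smul_left]
      ring
    rw [if_neg e2]
    obtain ⟨d, hd, hdi⟩ := exists_int_coeff (isGen_indFun (Subgroup.centralizer ({y} : Set G)) (hfgen _ ψ.2))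
    rw [← classInner_indFun _ _ (isClassFunction_of_isIrr χ.2), hdi]
    -- orthogonality to `1 - π`
    set ψ' : (Subgroup.centralizer ({y} : Set G)) → ℂ := fun c => (π c : ℂ) * (ψ : (Subgroup.centralizer ({y} : Set G)) → ℂ) c with hψ'
    have hψ'i := hmul _ ψ.2
    obtain ⟨ω, hω4, hωv⟩ := value_central hy ψ
    have hn0 : (ψ : (Subgroup.centralizer ({y} : Set G)) → ℂ) 1 ≠ 0 := irr_one_ne_zero ψ.2
    have hω0 : ω ≠ 0 := fun h => by rw [h] at hω4; norm_num at hω4
    have hneψ : (ψ : (Subgroup.centralizer ({y} : Set G)) → ℂ) ≠ ψ' := fun h => by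
      have h' := congrFun h ⟨y, self_mem_cent y⟩
      simp only [hψ', hπy, hωv] at h'
      exact mul_ne_zero hω0 hn0 (by linear_combination (1 / 2 : ℂ) * h')
    have hsq' : ∀ c, (π c : ℂ) * (π c : ℂ) = 1 := fun c => by
      rw [← sq, ← Units.val_pow_eq_pow_val, hsq, Units.val_one]
    have hψ'1 : ψ' ≠ fun _ => 1 := fun h => e2 <| funext fun c => by
      have h' := congrFun h c
      simp only [hψ'] at h'
      calc (ψ : (Subgroup.centralizer ({y} : Set G)) → ℂ) c = (π c : ℂ) * (π c : ℂ) * (ψ : (Subgroup.centralizer ({y} : Set G)) → ℂ) c := by rw [hsq', one_mul]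
        _ = _ := by rw [mul_assoc, h', mul_one]
    have hψ'π : ψ' ≠ fun c => (π c : ℂ) := fun h => e1 <| funext fun c => by
      have h' := congrFun h c
      simp only [hψ'] at h'
      exact mul_left_cancel₀ (Units.ne_zero (π c)) (by rw [h', mul_one])
    have horth : ∑ x ∈ T, m x * d x = 0 := by
      have hz : Cfsg.classInner (Cfsg.indFun (Subgroup.centralizer ({y} : Set G)) (f (ψ : (Subgroup.centralizer ({y} : Set G)) → ℂ))) (Cfsg.indFun (Subgroup.centralizer ({y} : Set G)) (thetaOf π)) = 0 := by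
        rw [classInner_indFun_indFun hU hy hb (hfsupp _ (isClassFunction_of_isIrr ψ.2))
          (supported_theta hπ),
          show twist hb (thetaOf π) = thetaOf π from funext fun c => by
            simp only [twist_eq, thetaOf, hinv],
          hfd, theta_eq, classInner_irr_diff ψ.2 hψ'i isIrr_one hπirr, if_neg e1, if_neg e2,
          if_neg hψ'1, if_neg hψ'π]
        ring
      rw [classInner_eq_sum (isClassFunction_indFun _ _)] at hz
      simp only [hdi, hmi, map_intCast] at hz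
      have hz' : ∑ x, (m x : ℂ) * (d x : ℂ) = 0 :=
        (Finset.sum_congr rfl fun x _ => mul_comm _ _).trans hz
      rw [sum_support h1 h0 hrest] at hz'
      have ht : d (trivChar G) = 0 := by
        have : ((d (trivChar G) : ℤ) : ℂ) = (0 : ℤ) := by
          rw [← hdi, classInner_indFun _ _ (isClassFunction_of_isIrr (trivChar G).2), hfd]
          simp only [trivChar_apply]
          rw [classInner_sub_left, classInner_isIrr_ne ψ.2 isIrr_one e1,
            classInner_isIrr_ne hψ'i isIrr_one hψ'1]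
          simp
        exact_mod_cast this
      rw [ht, Int.cast_zero, zero_add] at hz'
      exact_mod_cast hz'
    -- degree and value at the involution
    obtain ⟨q1, q2, -⟩ := relations hU hy (hfsupp _ (isClassFunction_of_isIrr ψ.2)) d hd
    set φ : (Subgroup.centralizer ({y} : Set G)) → ℂ := fun c => (ψ : (Subgroup.centralizer ({y} : Set G)) → ℂ) (conjHom hb c) with hφ
    have hφi : Cfsg.IsIrrCharacter (Subgroup.centralizer ({y} : Set G)) φ := isIrr_comp _ (conjHom_bijective hb).surjective ψ.2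
    set φ' : (Subgroup.centralizer ({y} : Set G)) → ℂ := fun c => (π c : ℂ) * φ c with hφ'
    have hnorm : ((∑ x, d x ^ 2 : ℤ) : ℂ) = 2 +
        (2 * (if (ψ : (Subgroup.centralizer ({y} : Set G)) → ℂ) = φ then 1 else 0) - 2 * (if (ψ : (Subgroup.centralizer ({y} : Set G)) → ℂ) = φ' then 1 else 0)) := by
      rw [← classInner_self_eq_sum_sq (isClassFunction_indFun _ _) d hdi,
        classInner_indFun_indFun hU hy hb (hfsupp _ (isClassFunction_of_isIrr ψ.2))
          (hfsupp _ (isClassFunction_of_isIrr ψ.2)),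
        show twist hb (f (ψ : (Subgroup.centralizer ({y} : Set G)) → ℂ)) = φ - φ' from funext fun c => by
          simp [twist_eq, hf, hφ', hφ, thetaOf, hinv]; ring,
        hfd, ← hψ', classInner_irr_diff ψ.2 hψ'i ψ.2 hψ'i,
        classInner_irr_diff ψ.2 hψ'i hφi (hmul _ hφi), if_neg hneψ, if_neg hneψ.symm]
      have i1 : (ψ' = φ') ↔ ((ψ : (Subgroup.centralizer ({y} : Set G)) → ℂ) = φ) := by
        refine ⟨fun h => funext fun c => mul_left_cancel₀ (Units.ne_zero (π c)) (congrFun h c),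
          fun h => by rw [hψ', hφ', h]⟩
      have i2 : (ψ' = φ) ↔ ((ψ : (Subgroup.centralizer ({y} : Set G)) → ℂ) = φ') := by
        constructor
        · intro h
          funext c
          rw [hφ', ← h, hψ']
          simp only
          rw [← mul_assoc, hsq', one_mul]
        · intro h
          funext c
          rw [hψ', h, hφ']
          simp only
          rw [← mul_assoc, hsq', one_mul]
      simp only [hψ', hφ'] at i1 i2
      simp only [hφ', i1, i2, ↓reduceIte]
      ring
    have hTle : ∑ x ∈ T, d x ^ 2 ≤ ∑ x, d x ^ 2 :=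
      Finset.sum_le_sum_of_subset_of_nonneg (Finset.subset_univ _) fun _ _ _ => sq_nonneg _
    suffices h : ∀ x ∈ T, d x = 0 by rw [h χ hχ, Int.cast_zero]
    by_cases hfix : (ψ : (Subgroup.centralizer ({y} : Set G)) → ℂ) = φ
    swap
    · have hle : ∑ x, d x ^ 2 ≤ 2 := by
        rw [if_neg hfix] at hnorm
        split_ifs at hnorm
        · have : ∑ x, d x ^ 2 = 0 := by norm_num at hnorm; exact_mod_cast hnorm
          omega
        · have : ∑ x, d x ^ 2 = 2 := by norm_num at hnorm; exact_mod_cast hnorm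
          omega
      refine pair_zero hpm hpair d horth (hTle.trans hle) fun h2 => ?_
      have hout : ∀ x, x ∉ T → d x = 0 := fun x hx => by
        have h3 := Finset.sum_le_sum_of_subset_of_nonneg (f := fun x => d x ^ 2)
          (Finset.subset_univ (insert x T)) fun _ _ _ => sq_nonneg _
        rw [Finset.sum_insert hx, h2] at h3
        exact (pow_eq_zero_iff two_ne_zero).1 (le_antisymm (by linarith) (sq_nonneg _))
      refine ⟨?_, ?_⟩
      · rw [← q1]
        exact Finset.sum_subset (Finset.subset_univ _) fun x _ hx => by rw [hout x hx]; simp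
      · rw [← q2]
        exact Finset.sum_subset (Finset.subset_univ _) fun x _ hx => by rw [hout x hx]; simp
    have hnφ' : (ψ : (Subgroup.centralizer ({y} : Set G)) → ℂ) ≠ φ' := fun h => hneψ (h.trans (by rw [hφ', ← hfix]))
    rw [if_pos hfix, if_neg hnφ'] at hnorm
    have hN4 : ∑ x, d x ^ 2 = 4 := by norm_num at hnorm; exact_mod_cast hnorm
    -- the value at `y` is real, and `ψ` is not
    have hyinv : conjHom hb ⟨y, self_mem_cent y⟩ = (⟨y, self_mem_cent y⟩ : (Subgroup.centralizer ({y} : Set G)))⁻¹ :=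
      Subtype.ext (by
        show b⁻¹ * y * b = y⁻¹
        have h2 : b⁻¹ * (b * y * b⁻¹) * b = y := by group
        rw [hb] at h2
        have h3 := congrArg (·⁻¹) h2
        simp only [mul_inv_rev, inv_inv, ← mul_assoc] at h3
        exact h3)
    have hωr : ω = 1 ∨ ω = -1 := by
      refine eq_one_or_neg_one_of_real hω4 ?_
      have h := congrFun hfix ⟨y, self_mem_cent y⟩
      simp only [hφ, hyinv] at h
      rw [character_inv (isCharacter_of_isIrr ψ.2), hωv, map_mul] at h
      obtain ⟨n, hn⟩ := exists_degree (isCharacter_of_isIrr ψ.2)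
      rw [hn, map_natCast] at h
      exact (mul_right_cancel₀ (hn ▸ hn0) h).symm
    have hconjψ : (fun c => conj ((ψ : (Subgroup.centralizer ({y} : Set G)) → ℂ) c)) ≠ (ψ : (Subgroup.centralizer ({y} : Set G)) → ℂ) := by
      intro hreal
      haveI : (Subgroup.zpowers (⟨y, self_mem_cent y⟩ : (Subgroup.centralizer ({y} : Set G)))).Normal := by
        refine ⟨fun z hz c => ?_⟩
        obtain ⟨k, rfl⟩ := Subgroup.mem_zpowers_iff.1 hz
        have hc : Commute c (⟨y, self_mem_cent y⟩ : (Subgroup.centralizer ({y} : Set G))) :=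
          Subtype.ext (Subgroup.mem_centralizer_singleton_iff.1 c.2)
        rw [(hc.zpow_right k).eq, mul_inv_cancel_right]
        exact Subgroup.zpow_mem _ (Subgroup.mem_zpowers _) k
      have hker : ∀ (θ : Cfsg.IrrCharacter (Subgroup.centralizer ({y} : Set G))),
          (θ : (Subgroup.centralizer ({y} : Set G)) → ℂ) ⟨y, self_mem_cent y⟩ = (θ : (Subgroup.centralizer ({y} : Set G)) → ℂ) 1 →
          (∀ c, conj ((θ : (Subgroup.centralizer ({y} : Set G)) → ℂ) c) = (θ : (Subgroup.centralizer ({y} : Set G)) → ℂ) c) → (θ : (Subgroup.centralizer ({y} : Set G)) → ℂ) = fun _ => 1 :=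
        fun θ hθy hθr => eq_one_of_real_of_odd_index _ hidx θ.2
          (fun z hz => (Subgroup.zpowers_le.2 (mem_charKer.2 hθy) : _ ≤ charKer θ) hz) hθr
      rcases hωr with rfl | rfl
      · exact e1 (hker ψ (by rw [hωv, one_mul]) (congrFun hreal))
      · refine hψ'1 (hker ⟨ψ', hψ'i⟩ ?_ fun c => ?_)
        · simp only [hψ', hπy, hωv, map_one, Units.val_one]; ring
        · simp only [hψ', map_mul, hπr, congrFun hreal c]
    have hconjψ' : (fun c => conj ((ψ : (Subgroup.centralizer ({y} : Set G)) → ℂ) c)) ≠ ψ' := by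
      intro h
      have h' := congrFun h ⟨y, self_mem_cent y⟩
      simp only [hψ', hωv, hπy, map_mul] at h'
      obtain ⟨n, hn⟩ := exists_degree (isCharacter_of_isIrr ψ.2)
      rw [hn, map_natCast] at h'
      have hn' : (n : ℂ) ≠ 0 := hn ▸ hn0
      rcases hωr with rfl | rfl <;> simp only [map_neg, map_one] at h' <;>
        exact hn' (by first | linear_combination (1 / 2 : ℂ) * h' | linear_combination (-1 / 2 : ℂ) * h')
    set ψc : (Subgroup.centralizer ({y} : Set G)) → ℂ := fun c => conj ((ψ : (Subgroup.centralizer ({y} : Set G)) → ℂ) c) with hψc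
    have hψci : Cfsg.IsIrrCharacter (Subgroup.centralizer ({y} : Set G)) ψc := (conjIrr ψ).2
    have hP : ∑ x, d x * d (conjIrr x) = 0 := by
      have hz : Cfsg.classInner (Cfsg.indFun (Subgroup.centralizer ({y} : Set G)) (f (ψ : (Subgroup.centralizer ({y} : Set G)) → ℂ)))
          (fun g => conj (Cfsg.indFun (Subgroup.centralizer ({y} : Set G)) (f (ψ : (Subgroup.centralizer ({y} : Set G)) → ℂ)) g)) = 0 := by
        have hcf : (fun g => conj (Cfsg.indFun (Subgroup.centralizer ({y} : Set G)) (f (ψ : (Subgroup.centralizer ({y} : Set G)) → ℂ)) g)) = Cfsg.indFun (Subgroup.centralizer ({y} : Set G)) (f ψc) :=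
          funext fun g => by
            rw [indFun_conj]
            congr 1
            funext c
            simp [hf, hψc, thetaOf, hπr]
        have htw : twist hb (f ψc) = f ψc := funext fun c => by
          have h := congrFun hfix c
          simp only [hφ] at h
          simp only [twist_eq, hf, hψc, thetaOf, hinv, ← h]
        rw [hcf, classInner_indFun_indFun hU hy hb (hfsupp _ (isClassFunction_of_isIrr ψ.2))
          (hfsupp _ (isClassFunction_of_isIrr hψci)), htw, hfd, hfd,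
          classInner_irr_diff ψ.2 hψ'i hψci (hmul _ hψci)]
        have j1 : ¬ ((ψ : (Subgroup.centralizer ({y} : Set G)) → ℂ) = fun c => (π c : ℂ) * ψc c) := fun h => hconjψ' <| funext fun c => by
          have h' := congrFun h c
          simp only [hψ', h', ← mul_assoc, hsq', one_mul]
        have j2 : ¬ (ψ' = fun c => (π c : ℂ) * ψc c) := fun h => hconjψ <| funext fun c =>
          (mul_left_cancel₀ (Units.ne_zero (π c)) (congrFun h c)).symm
        rw [if_neg (Ne.symm hconjψ), if_neg j1, if_neg (Ne.symm hconjψ'), if_neg j2]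
        ring
      rw [classInner_eq_sum (isClassFunction_indFun _ _)] at hz
      simp only [hdi, classInner_conj_fun, map_intCast] at hz
      exact_mod_cast hz
    have hreindex : ∀ F : Cfsg.IrrCharacter G → ℂ, ∑ x, F (conjIrr x) = ∑ x, F x := fun F =>
      Fintype.sum_bijective conjIrr conjIrr_bijective _ _ fun x => rfl
    have hbar : ∑ x, d (conjIrr x) ^ 2 = 4 := by
      rw [← hN4]
      exact Fintype.sum_bijective conjIrr conjIrr_bijective _ _ fun x => rfl
    have hsum : ∑ x, (d x + d (conjIrr x)) ^ 2 = 8 := by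
      rw [Finset.sum_congr rfl (g := fun x => d x ^ 2 + d (conjIrr x) ^ 2 + 2 * (d x * d (conjIrr x)))
        fun x _ => by ring]
      rw [Finset.sum_add_distrib, Finset.sum_add_distrib, ← Finset.mul_sum, hN4, hbar, hP]
      norm_num
    have hTsum : ∑ x ∈ T, (d x + d (conjIrr x)) ^ 2 = 4 * ∑ x ∈ T, d x ^ 2 := by
      rw [Finset.mul_sum]
      exact Finset.sum_congr rfl fun x hx => by rw [hrealT x hx]; ring
    have hle2 : ∑ x ∈ T, d x ^ 2 ≤ 2 := by
      have := Finset.sum_le_sum_of_subset_of_nonneg (f := fun x => (d x + d (conjIrr x)) ^ 2)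
        (Finset.subset_univ T) fun _ _ _ => sq_nonneg _
      omega
    refine pair_zero hpm hpair d horth hle2 fun h2 => ?_
    have hout : ∀ x, x ∉ T → d x + d (conjIrr x) = 0 := fun x hx => by
      have h3 := Finset.sum_le_sum_of_subset_of_nonneg (f := fun x => (d x + d (conjIrr x)) ^ 2)
        (Finset.subset_univ (insert x T)) fun _ _ _ => sq_nonneg _
      rw [Finset.sum_insert hx, hTsum, h2, hsum] at h3
      exact (pow_eq_zero_iff two_ne_zero).1 (le_antisymm (by linarith) (sq_nonneg _))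
    have hval : ∀ g : G, ∑ x, (d x : ℂ) * (x : G → ℂ) g = 0 →
        ∑ x ∈ T, (d x : ℂ) * (x : G → ℂ) g = 0 := fun g hg => by
      have hc : ∑ x, (d (conjIrr x) : ℂ) * (x : G → ℂ) g = 0 := by
        have h3 := hreindex fun x => (d x : ℂ) * (conjIrr x : G → ℂ) g
        simp only [conjIrr_conjIrr] at h3
        rw [h3]
        have h4 := congrArg conj hg
        rw [map_zero, map_sum] at h4
        simpa [map_mul, conjIrr_apply] using h4
      have h5 : ∑ x, ((d x + d (conjIrr x) : ℤ) : ℂ) * (x : G → ℂ) g = 0 := by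
        push_cast
        simp only [add_mul, Finset.sum_add_distrib, hg, hc, add_zero]
      rw [← Finset.sum_subset (Finset.subset_univ T) (fun x _ hx => by rw [hout x hx]; simp)] at h5
      have h6 : (2 : ℂ) * ∑ x ∈ T, (d x : ℂ) * (x : G → ℂ) g = 0 := by
        rw [← h5, Finset.mul_sum]
        exact Finset.sum_congr rfl fun x hx => by rw [hrealT x hx]; push_cast; ring
      exact (mul_eq_zero.1 h6).resolve_left two_ne_zero
    exact ⟨hval 1 q1, hval _ q2⟩
  -- evaluate `(1 - π) χ` at `y`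
  have hexp : ∀ c, thetaOf π c * (χ : G → ℂ) c =
      ∑ ψ : Cfsg.IrrCharacter (Subgroup.centralizer ({y} : Set G)),
        conj (Cfsg.classInner (f (ψ : (Subgroup.centralizer ({y} : Set G)) → ℂ)) (fun c : (Subgroup.centralizer ({y} : Set G)) => (χ : G → ℂ) c)) * (ψ : (Subgroup.centralizer ({y} : Set G)) → ℂ) c := by
    intro c
    have hh : Cfsg.IsClassFunction (Subgroup.centralizer ({y} : Set G)) (f fun c : (Subgroup.centralizer ({y} : Set G)) => (χ : G → ℂ) c) :=
      (hfsupp _ fun a b' => by simpa using isClassFunction_of_isIrr χ.2 (a : G) b').1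
    have h3 := congrFun (classFunction_expansion hh) c
    refine Eq.trans (show thetaOf π c * (χ : G → ℂ) c = f (fun c : (Subgroup.centralizer ({y} : Set G)) => (χ : G → ℂ) c) c from rfl) ?_
    rw [h3, Finset.sum_apply]
    refine Finset.sum_congr rfl fun ψ _ => ?_
    rw [Pi.smul_apply, smul_eq_mul]
    congr 1
    simp only [Cfsg.classInner, hf, map_mul, map_inv₀, map_natCast, map_sum, Complex.conj_conj]
    refine congrArg _ (Finset.sum_congr rfl fun x _ => ?_)
    rw [show conj (thetaOf π x) = thetaOf π x by simp [thetaOf, hπr]]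
    ring
  have hy' := hexp ⟨y, self_mem_cent y⟩
  simp only [hcoef] at hy'
  set i1 : Cfsg.IrrCharacter (Subgroup.centralizer ({y} : Set G)) := ⟨fun _ => 1, isIrr_one⟩ with hi1
  set iπ : Cfsg.IrrCharacter (Subgroup.centralizer ({y} : Set G)) := ⟨fun c => (π c : ℂ), hπirr⟩ with hiπ
  have hne : i1 ≠ iπ := fun h => linChar_ne hπ (congrArg Subtype.val h).symm
  rw [Fintype.sum_eq_add i1 iπ hne] at hy'
  · rw [if_pos rfl, if_neg (show ¬ ((iπ : (Subgroup.centralizer ({y} : Set G)) → ℂ) = fun _ => 1) from linChar_ne hπ), if_pos rfl] at hy'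
    simp only [hi1, hiπ, thetaOf, hπy, map_neg, map_intCast] at hy'
    linear_combination (1 / 2 : ℂ) * hy'
  · rintro x ⟨hx1, hx2⟩
    rw [if_neg (fun h => hx1 (Subtype.ext h)), if_neg (fun h => hx2 (Subtype.ext h))]
    simp

end Values

end CfsgLib.BrauerSuzuki
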