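import Cfsg.Agent.BrauerSuzuki.Exceptional
import Mathlib.GroupTheory.Transfer
import Mathlib.RingTheory.RootsOfUnity.Complex

/-!
# The linear character of `C(y)` used in the Brauer-Suzuki theorem

It is trivial on the elements of order prime to 4 and takes the value `-1` at `y`.
-/

set_option autoImplicit false
set_option linter.style.haveILetI false
set_option linter.unusedSectionVars false

namespace CfsgLib.BrauerSuzuki

universe u

/-- A finite cyclic group has a faithful linear character. -/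
theorem exists_injective_hom (A : Type*) [Group A] [Finite A] [IsCyclic A] :
    ∃ f : A →* ℂˣ, Function.Injective f := by
  haveI : NeZero (Nat.card A) := ⟨Nat.card_pos.ne'⟩
  have h : Nat.card A = Nat.card (rootsOfUnity (Nat.card A) ℂ) :=
    (Complex.card_rootsOfUnity _).symm
  let e := mulEquivOfCyclicCardEq h
  exact ⟨(rootsOfUnity (Nat.card A) ℂ).subtype.comp e.toMonoidHom,
    fun a b hab => e.injective (Subtype.ext hab)⟩

variable {C : Type u} [Group C] [Finite C]

/-- The character attached to a cyclic Sylow 2-subgroup. -/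
theorem exists_sign_hom (P : Sylow 2 C) (hP : IsCyclic P) {y : C} (hy : orderOf y = 4) :
    ∃ π : C →* ℂˣ, (∀ c : C, ¬ 4 ∣ orderOf c → π c = 1) ∧ (π y : ℂ) = -1 ∧
      (∀ c : C, (∃ k, orderOf c = 2 ^ k) → 8 ∣ orderOf c → π c ^ 2 ≠ 1) ∧
      (Nat.card P = 4 → ∀ c : C, π c ^ 2 = 1) := by
  have h2C : 2 ∣ Nat.card C := by
    have := orderOf_dvd_natCard y
    rw [hy] at this
    omega
  have hne : Nat.card C ≠ 1 := fun h => by rw [h] at h2C; omega
  have hmin : (Nat.card C).minFac = 2 :=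
    le_antisymm (Nat.minFac_le_of_dvd le_rfl h2C) (Nat.minFac_prime hne).two_le
  set τ := MonoidHom.transferSylow P (hP.normalizer_le_centralizer hmin) with hτ
  have hdis : ∀ x : C, (∃ k, orderOf x = 2 ^ k) → τ x = 1 → x = 1 := by
    rintro x ⟨k, hk⟩ hx
    have hQ : IsPGroup 2 (Subgroup.zpowers x) :=
      IsPGroup.of_card (n := k) (by rw [Nat.card_zpowers, hk])
    exact Subgroup.disjoint_def.1 (MonoidHom.ker_transferSylow_disjoint P _ _ hQ) hx
      (Subgroup.mem_zpowers x)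
  have hord : ∀ x : C, (∃ k, orderOf x = 2 ^ k) → orderOf (τ x) = orderOf x := by
    intro x hx
    refine Nat.dvd_antisymm (orderOf_map_dvd τ x) (orderOf_dvd_of_pow_eq_one (hdis _ ?_ ?_))
    · obtain ⟨k, hk⟩ := hx
      obtain ⟨j, -, hj⟩ := (Nat.dvd_prime_pow Nat.prime_two).1
        (hk ▸ (orderOf_pow_dvd (orderOf (τ x)) : orderOf (x ^ orderOf (τ x)) ∣ orderOf x))
      exact ⟨j, hj⟩
    · rw [map_pow, pow_orderOf_eq_one]
  obtain ⟨χ₀, hχ₀⟩ := exists_injective_hom P
  set π : C →* ℂˣ := (powMonoidHom 2).comp (χ₀.comp τ) with hπ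
  have hπe : ∀ c, π c = χ₀ (τ c) ^ 2 := fun c => rfl
  have ho : ∀ c, orderOf (χ₀ (τ c)) = orderOf (τ c) := fun c => orderOf_injective χ₀ hχ₀ _
  refine ⟨π, fun c hc => ?_, ?_, fun c hc h8 h => ?_, fun hP4 c => ?_⟩
  · rw [hπe, ← orderOf_dvd_iff_pow_eq_one, ho]
    obtain ⟨k, hk⟩ := P.isPGroup'.exists_card_eq
    obtain ⟨j, -, hj⟩ := (Nat.dvd_prime_pow Nat.prime_two).1
      (hk ▸ (orderOf_dvd_natCard (τ c) : orderOf (τ c) ∣ Nat.card P))
    rw [hj]
    have hdvd : 2 ^ j ∣ orderOf c := hj ▸ orderOf_map_dvd τ c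
    match j with
    | 0 => exact one_dvd _
    | 1 => exact dvd_rfl
    | j + 2 => exact absurd ((pow_dvd_pow 2 (by omega : 2 ≤ j + 2)).trans hdvd) hc
  · have h4 : orderOf (τ y) = 4 := by rw [hord y ⟨2, hy⟩, hy]
    have h1 : ((χ₀ (τ y) : ℂ) ^ 2) ^ 2 = 1 := by
      rw [← pow_mul, ← Units.val_pow_eq_pow_val, orderOf_dvd_iff_pow_eq_one.1 (by rw [ho, h4]),
        Units.val_one]
    rw [hπe, Units.val_pow_eq_pow_val]
    refine (sq_eq_one_iff.1 h1).resolve_left fun h => ?_
    have : orderOf (χ₀ (τ y)) ∣ 2 :=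
      orderOf_dvd_of_pow_eq_one (Units.ext (by rw [Units.val_pow_eq_pow_val, h, Units.val_one]))
    rw [ho, h4] at this
    omega
  · rw [hπe, ← pow_mul, ← orderOf_dvd_iff_pow_eq_one, ho, hord c hc] at h
    have := Nat.le_of_dvd (by norm_num) (h8.trans h)
    omega
  · rw [hπe, ← pow_mul, ← orderOf_dvd_iff_pow_eq_one, ho]
    exact (orderOf_dvd_natCard (τ c)).trans (hP4 ▸ dvd_rfl)

end CfsgLib.BrauerSuzuki
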