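import Cfsg.Agent.BrauerSuzuki.Forms

/-!
# Generalised quaternion Sylow subgroups of order at least 16

The pair of exceptional characters, and the subgroup generated by the involutions.
-/

set_option autoImplicit false
set_option linter.style.haveILetI false
set_option linter.unusedSectionVars false

namespace CfsgLib.BrauerSuzuki

open CfsgLib.Characters CfsgLib.PrincipalBlock

universe u

variable {G : Type u} [Group G]

/-- The generators of a quaternion subgroup. -/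
theorem exists_gens {S : Subgroup G} {k : ℕ} (e : S ≃* QuaternionGroup (2 ^ k)) :
    ∃ a b : G, a ∈ S ∧ b ∈ S ∧ orderOf a = 2 ^ (k + 1) ∧ b * a * b⁻¹ = a⁻¹ := by
  haveI : NeZero (2 ^ k) := ⟨by positivity⟩
  refine ⟨((e.symm (QuaternionGroup.a 1) : S) : G), ((e.symm (QuaternionGroup.xa 0) : S) : G),
    (e.symm _).2, (e.symm _).2, ?_, ?_⟩
  · rw [Subgroup.orderOf_coe, e.symm.orderOf_eq, QuaternionGroup.orderOf_a_one, pow_succ']
  · rw [mul_inv_eq_iff_eq_mul, ← Subgroup.coe_inv, ← Subgroup.coe_mul, ← Subgroup.coe_mul, ← map_inv,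
      ← map_mul, ← map_mul]
    congr 2
    rw [QuaternionGroup.xa_mul_a, show (QuaternionGroup.a 1 : QuaternionGroup (2 ^ k))⁻¹ =
      QuaternionGroup.a (-1) from rfl, QuaternionGroup.a_mul_xa]
    simp

variable [Fintype G]

/-- The two exceptional characters. -/
theorem exists_exceptional (hU : NoFour G) {a b : G} {k : ℕ} (hk : 2 ≤ k)
    (hoa : orderOf a = 2 ^ (k + 1)) (hba : b * a * b⁻¹ = a⁻¹) :
    ∃ χ₁ χ₂ : G → ℂ, Cfsg.IsIrrCharacter G χ₁ ∧ Cfsg.IsIrrCharacter G χ₂ ∧ χ₁ ≠ (fun _ => 1) ∧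
      χ₂ ≠ (fun _ => 1) ∧ χ₁ 1 = χ₂ 1 + 1 ∧ ∀ g : G, ¬ 4 ∣ orderOf g → χ₁ g - χ₂ g = 1 := by
  classical
  set y : G := a ^ 2 ^ (k - 1) with hy'
  have hy : orderOf y = 4 := by
    rw [hy', orderOf_pow_of_dvd (by positivity) (hoa ▸ pow_dvd_pow 2 (by omega)), hoa,
      Nat.pow_div (by omega) (by norm_num), show k + 1 - (k - 1) = 2 by omega]
  have hb : b * y * b⁻¹ = y⁻¹ := by rw [hy', ← conj_pow, hba, inv_pow]
  set P : Sylow 2 (Subgroup.centralizer ({y} : Set G)) := default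
  obtain ⟨hPc, -⟩ := isCyclic_sylow_cent hU hy P
  have hyC : orderOf (⟨y, self_mem_cent y⟩ : Subgroup.centralizer ({y} : Set G)) = 4 := by
    rw [← Subgroup.orderOf_coe]; exact hy
  obtain ⟨π, hπ1, hπy, hπ8, -⟩ := exists_sign_hom P hPc hyC
  have hπ : IsSign y π := ⟨fun c hc => hπ1 c (by rwa [← Subgroup.orderOf_coe]), fun c hc => by
    rw [show c = ⟨y, self_mem_cent y⟩ from Subtype.ext hc]; exact hπy⟩
  have hamem : a ∈ Subgroup.centralizer ({y} : Set G) :=
    Subgroup.mem_centralizer_singleton_iff.2 ((Commute.refl a).pow_right _).eq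
  have h8 := hπ8 ⟨a, hamem⟩ ⟨k + 1, by rw [Subgroup.orderOf_mk]; exact hoa⟩ (by
    rw [Subgroup.orderOf_mk, hoa]
    exact (pow_dvd_pow 2 (by omega : 3 ≤ k + 1)))
  obtain ⟨m, N, hm, -, h1, hN, ⟨hinv, -⟩ | ⟨-, rfl⟩⟩ := exists_mult hU hy hb hπ
  · refine absurd ?_ h8
    have hconj : conjHom hb (⟨a, hamem⟩ : Subgroup.centralizer ({y} : Set G)) = ⟨a, hamem⟩⁻¹ :=
      Subtype.ext (by
        show b⁻¹ * a * b = a⁻¹
        calc b⁻¹ * a * b = b⁻¹ * (b * a * b⁻¹)⁻¹ * b := by rw [hba, inv_inv]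
          _ = a⁻¹ := by group)
    have h := hinv ⟨a, hamem⟩
    rw [hconj, map_inv] at h
    rw [sq]
    nth_rewrite 1 [← h]
    exact inv_mul_cancel _
  obtain ⟨T, h0, hpm, hcard, hrest⟩ := exists_support h1 hN (by norm_num)
  obtain ⟨χ, ψ, hne, rfl⟩ := Finset.card_eq_two.1 (show T.card = 2 by omega)
  have hzero : ∀ g : G, ¬ 4 ∣ orderOf g →
      1 + ((m χ : ℂ) * (χ : G → ℂ) g + (m ψ : ℂ) * (ψ : G → ℂ) g) = 0 := by
    intro g hg
    have h := indFun_eq_zero (supported_theta hπ) hg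
    rw [hm, Finset.sum_apply] at h
    simp only [Pi.smul_apply, smul_eq_mul] at h
    rw [sum_support h1 h0 hrest, Finset.sum_pair hne, trivChar_apply] at h
    exact h
  obtain ⟨d, hd, hd'⟩ := exists_degree_pos χ.2
  obtain ⟨e, he, he'⟩ := exists_degree_pos ψ.2
  have hdeg := hzero 1 (by rw [orderOf_one]; omega)
  rw [hd', he'] at hdeg
  have hint : (1 : ℤ) + (m χ * d + m ψ * e) = 0 := by exact_mod_cast hdeg
  have hnχ : (χ : G → ℂ) ≠ fun _ => 1 := fun h => h0 (by
    have : χ = trivChar G := Subtype.ext h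
    simp [this])
  have hnψ : (ψ : G → ℂ) ≠ fun _ => 1 := fun h => h0 (by
    have : ψ = trivChar G := Subtype.ext h
    simp [this])
  rcases hpm χ (by simp) with e1 | e1 <;> rcases hpm ψ (by simp) with e2 | e2 <;>
    rw [e1, e2] at hint hzero
  · omega
  · refine ⟨ψ, χ, ψ.2, χ.2, hnψ, hnχ, ?_, fun g hg => ?_⟩
    · have := hzero 1 (by rw [orderOf_one]; omega)
      push_cast at this
      linear_combination -this
    · have := hzero g hg
      push_cast at this
      linear_combination -this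
  · refine ⟨χ, ψ, χ.2, ψ.2, hnχ, hnψ, ?_, fun g hg => ?_⟩
    · have := hzero 1 (by rw [orderOf_one]; omega)
      push_cast at this
      linear_combination -this
    · have := hzero g hg
      push_cast at this
      linear_combination -this
  · -- `d + e = 1` is impossible
    omega

omit [Fintype G] in
/-- The involutions generate a subgroup inside `N ⊔ ⟨u⟩`, `N` of odd order. -/
theorem exists_involution_hull [Finite G] (S : Sylow 2 G) {k : ℕ} (hk : 1 ≤ k)
    (e : (S : Subgroup G) ≃* QuaternionGroup (2 ^ k)) :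
    ∃ M : Subgroup G, M.Normal ∧ Even (Nat.card M) ∧ ¬ 4 ∣ Nat.card M ∧
      ∀ v : G, orderOf v = 2 → v ∈ M := by
  haveI : NeZero (2 ^ k) := ⟨by positivity⟩
  have hU := noFour_of_quaternion S e
  obtain ⟨a, b, ha, -, hoa, -⟩ := exists_gens e
  set u : G := a ^ 2 ^ k with hu'
  have hou : orderOf u = 2 := by
    rw [hu', orderOf_pow_of_dvd (by positivity) (hoa ▸ pow_dvd_pow 2 (by omega)), hoa,
      Nat.pow_div (by omega) (by norm_num), show k + 1 - k = 1 by omega]
  have u1 : u ^ 2 = 1 := by rw [← hou]; exact pow_orderOf_eq_one u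
  have u0 : u ≠ 1 := fun h => by rw [h, orderOf_one] at hou; omega
  obtain ⟨N, hN, hodd, hcomm⟩ := exists_normal_odd hU u1 u0
  haveI := hN
  have hconj : ∀ g : G, g * u * g⁻¹ ∈ N ⊔ Subgroup.zpowers u := by
    intro g
    have h : g * u * g⁻¹ = (u * g * u⁻¹ * g⁻¹)⁻¹ * u := by group
    rw [h]
    exact Subgroup.mul_mem _ (Subgroup.mem_sup_left (N.inv_mem (hcomm g)))
      (Subgroup.mem_sup_right (Subgroup.mem_zpowers u))
  refine ⟨N ⊔ Subgroup.zpowers u, ?_, ?_, ?_, ?_⟩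
  · refine ⟨fun x hx g => ?_⟩
    have hle : (N ⊔ Subgroup.zpowers u).map (MulAut.conj g).toMonoidHom ≤ N ⊔ Subgroup.zpowers u := by
      rw [Subgroup.map_sup, MonoidHom.map_zpowers]
      refine sup_le ?_ (Subgroup.zpowers_le.2 (hconj g))
      rintro _ ⟨y, hy, rfl⟩
      exact Subgroup.mem_sup_left (hN.conj_mem y hy g)
    exact hle ⟨x, hx, rfl⟩
  · rw [even_iff_two_dvd, ← hou, ← Nat.card_zpowers]
    exact Subgroup.card_dvd_of_le le_sup_right
  · intro h4
    have h := h4.trans (CfsgLib.SelfCentralizing.card_sup_dvd_mul N (Subgroup.zpowers u))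
    rw [Nat.card_zpowers, hou] at h
    obtain ⟨c, hc⟩ := h
    obtain ⟨d, hd⟩ := hodd
    omega
  · intro v hv
    have v1 : v ^ 2 = 1 := by rw [← hv]; exact pow_orderOf_eq_one v
    have v0 : v ≠ 1 := fun h => by rw [h, orderOf_one] at hv; omega
    obtain ⟨T, hT⟩ := (IsPGroup.of_card (n := 1) (by rw [Nat.card_zpowers, hv, pow_one]) :
      IsPGroup 2 (Subgroup.zpowers v)).exists_le_sylow
    obtain ⟨g, hg⟩ := MulAction.exists_smul_eq G S T
    have hv' : v ∈ ((g • S : Sylow 2 G) : Subgroup G) := hg ▸ hT (Subgroup.mem_zpowers v)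
    rw [Sylow.coe_subgroup_smul] at hv'
    obtain ⟨w, hw, hwv⟩ := hv'
    have hwv' : g * w * g⁻¹ = v := hwv
    have hwu : w = u := invol_eq hU S.isPGroup' hw (pow_mem ha _)
      (by
        have h : g * w ^ 2 * g⁻¹ = 1 := by rw [← conj_pow, hwv', v1]
        exact conj_eq_one_iff.1 h)
      (fun h => v0 (by rw [← hwv', h]; group)) u1 u0
    rw [← hwv', hwu]
    exact hconj g

end CfsgLib.BrauerSuzuki
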